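import Mathlib

/-!
# The arithmetic of the order formula
-/

set_option autoImplicit false

namespace Cfsg.Agent.Exceptional.SelfNine

theorem inv_ge_of_mod_one {D : ℤ} (hD : D % 9 = 1) : (-1 : ℚ) / 8 ≤ 1 / (D : ℚ) ∧
    (0 < D → 0 < 1 / (D : ℚ)) ∧ (D ≤ 0 → D ≤ -8) := by
  refine ⟨?_, fun h => div_pos one_pos (Int.cast_pos.2 h), fun h => by omega⟩
  rcases lt_or_ge 0 D with h | h
  · have : 0 < 1 / (D : ℚ) := div_pos one_pos (Int.cast_pos.2 h)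
    linarith
  · have h8 : (D : ℚ) ≤ -8 := by exact_mod_cast (show D ≤ -8 by omega)
    rw [le_div_iff_of_neg (by linarith)]
    linarith

theorem order_bound (D₀ D₁ D₂ D₃ : ℤ) (k : ℕ) (h0 : D₀ % 9 = 5) (h1 : D₁ % 9 = 1) (h2 : D₂ % 9 = 1)
    (h3 : D₃ % 9 = 1) (hsum : 1 + D₀ + D₁ + D₂ + D₃ = 0) (hk : k % 9 = 1)
    (heq : (36 * k : ℚ) *
      (1 - 2 / (D₀ : ℚ) + 1 / (D₁ : ℚ) + 1 / (D₂ : ℚ) + 1 / (D₃ : ℚ)) = 162) :
    k = 1 ∨ k = 10 := by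
  obtain ⟨b1, p1, n1⟩ := inv_ge_of_mod_one h1
  obtain ⟨b2, p2, n2⟩ := inv_ge_of_mod_one h2
  obtain ⟨b3, p3, n3⟩ := inv_ge_of_mod_one h3
  have b0 : (-2 : ℚ) / 5 ≤ -(2 / (D₀ : ℚ)) := by
    rcases lt_or_ge 0 D₀ with h | h
    · have h5 : (5 : ℚ) ≤ (D₀ : ℚ) := by exact_mod_cast (show 5 ≤ D₀ by omega)
      have : 2 / (D₀ : ℚ) ≤ 2 / 5 := div_le_div_of_nonneg_left (by norm_num) (by norm_num) h5
      linarith
    · have : 2 / (D₀ : ℚ) ≤ 0 := div_nonpos_of_nonneg_of_nonpos (by norm_num) (Int.cast_nonpos.2 h)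
      linarith
  have hk0 : (0 : ℚ) ≤ (k : ℚ) := Nat.cast_nonneg k
  have hk20 : k ≤ 20 := by
    have : (k : ℚ) ≤ 20 := by nlinarith
    exact_mod_cast this
  by_contra hne
  push Not at hne
  have hk19 : (k : ℚ) = 19 := by exact_mod_cast (show k = 19 by omega)
  rw [hk19] at heq
  by_cases hpos : 0 < D₁ ∨ 0 < D₂ ∨ 0 < D₃
  · rcases hpos with hp | hp | hp
    · have := p1 hp; linarith
    · have := p2 hp; linarith
    · have := p3 hp; linarith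
  · push Not at hpos
    have h23 : (23 : ℚ) ≤ (D₀ : ℚ) := by
      exact_mod_cast (show 23 ≤ D₀ by
        have := n1 hpos.1; have := n2 hpos.2.1; have := n3 hpos.2.2; omega)
    have : 2 / (D₀ : ℚ) ≤ 2 / 23 := div_le_div_of_nonneg_left (by norm_num) (by norm_num) h23
    linarith

end Cfsg.Agent.Exceptional.SelfNine
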