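import Cfsg.Agent.Lib.Char.Linear
import Cfsg.Agent.Lib.Char.ClassSum
import Cfsg.Agent.Lib.Char.Generalized
import Cfsg.Agent.Lib.CharInt.Basic
import Cfsg.Agent.S3701

/-!
# Sylow 3-subgroups of order 9 which are the centraliser of each of their nonidentity elements

A product of two elements of order three lying again in the Sylow subgroup either comes from the
Sylow subgroup or has both factors conjugate to powers of the product.
-/

set_option autoImplicit false

namespace Cfsg.Agent.Exceptional.SelfNine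

open Cfsg

universe u

variable {K : Type u} [Group K]

/-- A Sylow 3-subgroup of order 9 and exponent 3, the centraliser of each of its nonidentity
elements. -/
structure Setup (S : Sylow 3 K) : Prop where
  card : Nat.card S = 9
  exp : ∀ s ∈ (S : Subgroup K), s ^ 3 = 1
  cent : ∀ s ∈ (S : Subgroup K), s ≠ 1 → Subgroup.centralizer ({s} : Set K) = S

variable [Finite K] {S : Sylow 3 K}

theorem Setup.comm (h : Setup S) {a b : K} (ha : a ∈ (S : Subgroup K)) (hb : b ∈ (S : Subgroup K)) :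
    a * b = b * a := by
  rcases eq_or_ne b 1 with rfl | hb1
  · simp
  · rw [← h.cent b hb hb1] at ha
    exact Subgroup.mem_centralizer_singleton_iff.1 ha

theorem Setup.cube (h : Setup S) {s : K} (hs : s ∈ (S : Subgroup K)) : s * s * s = 1 := by
  rw [← pow_three']; exact h.exp s hs

theorem Setup.mem_of_commute (h : Setup S) {g s : K} (hs : s ∈ (S : Subgroup K)) (hs1 : s ≠ 1)
    (hg : g * s = s * g) : g ∈ (S : Subgroup K) := by
  rw [← h.cent s hs hs1]
  exact Subgroup.mem_centralizer_singleton_iff.2 hg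

/-- An element taking a nonidentity element of `S` into `S` normalises it. -/
theorem Setup.ctl (h : Setup S) {g s : K} (hs : s ∈ (S : Subgroup K)) (hs1 : s ≠ 1)
    (hgs : g * s * g⁻¹ ∈ (S : Subgroup K)) : g ∈ Subgroup.normalizer ((S : Subgroup K) : Set K) := by
  rw [Subgroup.mem_normalizer_iff_map_conj_eq]
  refine Subgroup.eq_of_le_of_card_ge ?_
    (by rw [Subgroup.card_map_of_injective (MulAut.conj g).injective])
  rintro - ⟨y, hy, rfl⟩
  show g * y * g⁻¹ ∈ (S : Subgroup K)
  refine h.mem_of_commute hgs (fun h1 => hs1 (conj_eq_one_iff.1 h1)) ?_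
  calc g * y * g⁻¹ * (g * s * g⁻¹) = g * (y * s) * g⁻¹ := by group
    _ = g * (s * y) * g⁻¹ := by rw [h.comm hy hs]
    _ = _ := by group

theorem Setup.not_27 (h : Setup S) : ¬ 27 ∣ Nat.card K := fun hd => by
  haveI := Fact.mk Nat.prime_three
  have : 3 ^ 3 ∣ Nat.card S := S.pow_dvd_card_of_pow_dvd_card hd
  rw [h.card] at this
  norm_num at this

/-- A left translate by an abelian subgroup on which `b` acts without fixed points is conjugate
to `b`. -/
theorem isConj_mul_of_fpf {A : Subgroup K} (hA : ∀ p ∈ A, ∀ q ∈ A, p * q = q * p) {b : K}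
    (hb : ∀ p ∈ A, b * p * b⁻¹ ∈ A) (hfix : ∀ p ∈ A, p * b = b * p → p = 1) {c : K} (hc : c ∈ A) :
    IsConj b (c * b) := by
  let F : A → A := fun p => ⟨p.1 * (b * (p.1)⁻¹ * b⁻¹), mul_mem p.2 (hb _ (inv_mem p.2))⟩
  have hF : Function.Injective F := by
    rintro ⟨p, hp⟩ ⟨q, hq⟩ hpq
    have h1 : p * (b * p⁻¹ * b⁻¹) = q * (b * q⁻¹ * b⁻¹) := congrArg Subtype.val hpq
    have h2 : q⁻¹ * p * b = b * (q⁻¹ * p) := by
      calc q⁻¹ * p * b = q⁻¹ * (p * (b * p⁻¹ * b⁻¹)) * b * p := by group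
        _ = b * (q⁻¹ * p) := by rw [h1]; group
    exact Subtype.ext (inv_mul_eq_one.1 (hfix _ (mul_mem (inv_mem hq) hp) h2)).symm
  obtain ⟨p, hp⟩ := Finite.injective_iff_surjective.1 hF ⟨c, hc⟩
  refine isConj_iff.2 ⟨p.1, ?_⟩
  rw [show c = p.1 * (b * (p.1)⁻¹ * b⁻¹) from (congrArg Subtype.val hp).symm]
  group

/-- The factors of a product in `S` of two elements of order three. -/
theorem Setup.triangle (h : Setup S) {x z : K} (hz : z ∈ (S : Subgroup K)) (hz1 : z ≠ 1)
    (hx : x * x * x = 1) (hy : x⁻¹ * z * (x⁻¹ * z) * (x⁻¹ * z) = 1) :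
    x ∈ (S : Subgroup K) ∨ IsConj z⁻¹ x ∧ IsConj z⁻¹ (x⁻¹ * z) := by
  classical
  haveI := Fact.mk Nat.prime_three
  set a := z with ha
  set g := x⁻¹ with hg
  have ha3 : a * a * a = 1 := h.cube hz
  have hg3 : g * g * g = 1 := by
    rw [hg, ← mul_inv_rev, ← mul_inv_rev, ← mul_assoc, hx, inv_one]
  have hai : a⁻¹ = a * a := inv_eq_of_mul_eq_one_right (by rw [← mul_assoc]; exact ha3)
  have hgi : g⁻¹ = g * g := inv_eq_of_mul_eq_one_right (by rw [← mul_assoc]; exact hg3)
  set c := g * a⁻¹ with hc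
  set c' := a⁻¹ * g with hc'
  have haa : a⁻¹ * a⁻¹ = a := by rw [← mul_inv_rev, ← hai, inv_inv]
  have hgag : g * a * g = a⁻¹ * g⁻¹ * a⁻¹ := by
    calc g * a * g = g * a * (g * a) * (g * a) * (a⁻¹ * g⁻¹ * a⁻¹) := by group
      _ = a⁻¹ * g⁻¹ * a⁻¹ := by rw [hy, one_mul]
  have hcc : c * c' = g * a * g := by
    calc c * c' = g * (a⁻¹ * a⁻¹) * g := by simp only [hc, hc', mul_assoc]
      _ = g * a * g := by rw [haa]
  have hcomm : c' * c = c * c' := by
    rw [hcc, hgag, hgi]
    simp only [hc, hc', mul_assoc]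
  set A := Subgroup.closure ({c, c'} : Set K) with hA
  have hAc : ∀ p ∈ A, ∀ q ∈ A, p * q = q * p := by
    haveI := Subgroup.isMulCommutative_closure (k := ({c, c'} : Set K)) (by
      rintro p (rfl | rfl) q (rfl | rfl)
      exacts [rfl, hcomm.symm, hcomm, rfl])
    exact fun p hp q hq => congrArg Subtype.val (mul_comm' (⟨p, hp⟩ : A) ⟨q, hq⟩)
  have hmemA : c ∈ A ∧ c' ∈ A :=
    ⟨Subgroup.subset_closure (by simp), Subgroup.subset_closure (by simp)⟩
  have hAn : ∀ p ∈ A, a * p * a⁻¹ ∈ A := by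
    have hle : A ≤ A.comap (MulAut.conj a).toMonoidHom := by
      rw [hA, Subgroup.closure_le]
      rintro p (rfl | rfl)
      · show a * c * a⁻¹ ∈ A
        have : a * c * a⁻¹ = (c * c')⁻¹ := by
          calc a * c * a⁻¹ = a * g * (a⁻¹ * a⁻¹) := by simp only [hc, mul_assoc]
            _ = a * g * a := by rw [haa]
            _ = _ := by rw [hcc, hgag]; group
        rw [this]
        exact inv_mem (mul_mem hmemA.1 hmemA.2)
      · show a * c' * a⁻¹ ∈ A
        rw [show a * c' * a⁻¹ = c by rw [hc', hc]; group]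
        exact hmemA.1
    exact fun p hp => hle hp
  by_cases hy0 : ∃ y ∈ A, y ≠ 1 ∧ y ^ 3 = 1
  · left
    obtain ⟨y, hyA, hy1, hy3⟩ := hy0
    let E : Subgroup K :=
      { carrier := {p | p ∈ A ∧ p ^ 3 = 1}
        one_mem' := ⟨one_mem A, one_pow 3⟩
        mul_mem' := fun {p q} hp hq => ⟨mul_mem hp.1 hq.1, by
          rw [(show Commute p q from hAc p hp.1 q hq.1).mul_pow, hp.2, hq.2, one_mul]⟩
        inv_mem' := fun {p} hp => ⟨inv_mem hp.1, by rw [inv_pow, hp.2, inv_one]⟩ }
    have hEp : IsPGroup 3 E := fun p => ⟨1, Subtype.ext (by rw [pow_one]; exact p.2.2)⟩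
    have haE : Subgroup.zpowers a ≤ Subgroup.normalizer (E : Set K) := by
      rw [Subgroup.zpowers_le, Subgroup.mem_normalizer_iff_map_conj_eq]
      refine Subgroup.eq_of_le_of_card_ge ?_
        (by rw [Subgroup.card_map_of_injective (MulAut.conj a).injective])
      rintro - ⟨p, hp, rfl⟩
      exact ⟨hAn p hp.1, by
        show (a * p * a⁻¹) ^ 3 = 1
        rw [conj_pow, hp.2, mul_one, mul_inv_cancel]⟩
    have hap : IsPGroup 3 (Subgroup.zpowers a) := by
      rintro ⟨p, hp⟩
      obtain ⟨k, rfl⟩ := Subgroup.mem_zpowers_iff.1 hp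
      exact ⟨1, Subtype.ext (by
        show (a ^ k) ^ (3 ^ 1) = 1
        rw [pow_one, ← zpow_natCast, ← zpow_mul, mul_comm, zpow_mul, zpow_natCast, pow_three', ha3,
          one_zpow])⟩
    obtain ⟨P, hP⟩ := (IsPGroup.to_sup_of_normal_left' hEp hap haE).exists_le_sylow
    have hP9 : Nat.card P = 3 ^ 2 := by
      rw [P.card_eq_multiplicity, ← S.card_eq_multiplicity, h.card]; norm_num
    have hya : y * a = a * y := congrArg Subtype.val (IsPGroup.commutative_of_card_eq_prime_sq hP9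
      ⟨y, hP (Subgroup.mem_sup_left ⟨hyA, hy3⟩)⟩
      ⟨a, hP (Subgroup.mem_sup_right (Subgroup.mem_zpowers a))⟩)
    have hyS := h.mem_of_commute hz hz1 hya
    have hcS := h.mem_of_commute hyS hy1 (hAc c hmemA.1 y hyA)
    rw [show x = (c * a)⁻¹ by rw [hc, hg]; group]
    exact inv_mem (mul_mem hcS hz)
  · push Not at hy0
    have hfix : ∀ p ∈ A, p * a = a * p → p = 1 := fun p hp hpa => by
      by_contra hp1
      exact hy0 p hp hp1 (h.exp p (h.mem_of_commute hz hz1 hpa))
    have hconj : IsConj a g := by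
      have := isConj_mul_of_fpf hAc hAn hfix hmemA.1
      rwa [show c * a = g by rw [hc]; group] at this
    have hconj' : IsConj a⁻¹ (g * a) := by
      have := isConj_mul_of_fpf (b := a⁻¹) hAc
        (fun p hp => by
          have := hAn _ (hAn p hp)
          rwa [show a * (a * p * a⁻¹) * a⁻¹ = a⁻¹ * p * a⁻¹⁻¹ by
            rw [inv_inv, show a * (a * p * a⁻¹) * a⁻¹ = a * a * p * (a⁻¹ * a⁻¹) by group, haa, ← hai]]
            at this)
        (fun p hp hpa => hfix p hp (by
          calc p * a = a * (a⁻¹ * p) * a := by group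
            _ = a * p := by rw [← hpa]; group)) hmemA.1
      rwa [show c * a⁻¹ = g * a by rw [hc, mul_assoc, haa]] at this
    refine Or.inr ⟨?_, hconj'⟩
    obtain ⟨p, hp⟩ := isConj_iff.1 hconj
    refine isConj_iff.2 ⟨p, ?_⟩
    rw [show x = g⁻¹ by rw [hg, inv_inv], ← hp]
    group

end Cfsg.Agent.Exceptional.SelfNine
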