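import Cfsg.Agent.Lib.Exceptional.SelfNine.Basic
import Cfsg.Agent.Lib.Exceptional.ThreeByS3

/-!
# Coordinates on a self-centralising Sylow 3-subgroup of order 9, and its normal 3-complements
-/

set_option autoImplicit false

namespace Cfsg.Agent.Exceptional.SelfNine

open Cfsg
open ThreeByS3 (C3 γ)

/-- The elementary abelian group of order nine. -/
abbrev V := C3 × C3

/-- The power map out of the group of order three. -/
def powHom {K : Type*} [Group K] (x : K) (hx : x ^ 3 = 1) : C3 →* K where
  toFun c := x ^ (Multiplicative.toAdd c).val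
  map_one' := by simp
  map_mul' a b := by
    show x ^ (Multiplicative.toAdd a + Multiplicative.toAdd b).val = _
    rw [← pow_add, ZMod.val_add, ← pow_eq_pow_mod _ hx]

theorem pow_facts : (∀ c : C3, Multiplicative.toAdd c = 0 → c = 1) ∧
    (Multiplicative.toAdd γ).val = 1 ∧ (Multiplicative.toAdd (1 : C3)).val = 0 := by decide +kernel

universe u

variable {K : Type u} [Group K] [Finite K] {S : Sylow 3 K}

/-- Two independent elements give coordinates. -/
theorem exists_coord (h : Setup S) {x y : K} (hx : x ∈ (S : Subgroup K)) (hx1 : x ≠ 1)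
    (hy : y ∈ (S : Subgroup K)) (hyx : y ∉ Subgroup.zpowers x) :
    ∃ ι : V →* K, Function.Injective ι ∧ ι.range = (S : Subgroup K) ∧ ι (γ, 1) = x ∧ ι (1, γ) = y := by
  haveI := Fact.mk Nat.prime_three
  have hy1 : y ≠ 1 := fun h1 => hyx (h1 ▸ one_mem _)
  have comm : ∀ a b, Commute (powHom x (h.exp x hx) a) (powHom y (h.exp y hy) b) := fun a b =>
    (show Commute x y from h.comm hx hy).pow_pow _ _
  let ι : V →* K := (powHom x (h.exp x hx)).noncommCoprod (powHom y (h.exp y hy)) comm
  have hι : ∀ a b : C3, ι (a, b) =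
      x ^ (Multiplicative.toAdd a).val * y ^ (Multiplicative.toAdd b).val :=
    fun a b => MonoidHom.noncommCoprod_apply ..
  have hcop : ∀ z : K, z ≠ 1 → z ^ 3 = 1 → ∀ c : C3, z ^ (Multiplicative.toAdd c).val = 1 → c = 1 := by
    intro z hz1 hz c hc
    refine pow_facts.1 c ((ZMod.val_eq_zero _).1 (Nat.eq_zero_of_dvd_of_lt ?_ (ZMod.val_lt _)))
    have hd := orderOf_dvd_of_pow_eq_one hc
    rwa [orderOf_eq_prime hz hz1] at hd
  have hinj : Function.Injective ι := by
    rw [injective_iff_map_eq_one]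
    rintro ⟨a, b⟩ hab
    rw [hι] at hab
    have hb : b = 1 := by
      by_contra hb
      have hm : y ^ (Multiplicative.toAdd b).val ∈ Subgroup.zpowers x := by
        rw [eq_inv_of_mul_eq_one_right hab]
        exact inv_mem (Subgroup.npow_mem_zpowers x _)
      have h3 : (Multiplicative.toAdd b).val.Coprime (orderOf y) := by
        rw [orderOf_eq_prime (h.exp y hy) hy1]
        refine Nat.Coprime.symm ((Nat.Prime.coprime_iff_not_dvd Nat.prime_three).2 fun hd => ?_)
        exact hb (pow_facts.1 b ((ZMod.val_eq_zero _).1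
          (Nat.eq_zero_of_dvd_of_lt hd (ZMod.val_lt _))))
      obtain ⟨m, hm'⟩ := exists_pow_eq_self_of_coprime h3
      rw [← hm'] at hyx
      exact hyx (pow_mem hm m)
    subst hb
    rw [pow_facts.2.2, pow_zero, mul_one] at hab
    rw [hcop x hx1 (h.exp x hx) a hab]
    rfl
  refine ⟨ι, hinj, ?_, ?_, ?_⟩
  · refine Subgroup.eq_of_le_of_card_ge ?_ ?_
    · rintro - ⟨⟨a, b⟩, rfl⟩
      rw [hι]
      exact mul_mem (pow_mem hx _) (pow_mem hy _)
    · rw [← Nat.card_congr (MonoidHom.ofInjective hinj).toEquiv, h.card,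
        Nat.card_eq_fintype_card (α := V)]
      exact le_of_eq rfl
  · rw [hι, pow_facts.2.1, pow_facts.2.2]; simp
  · rw [hι, pow_facts.2.1, pow_facts.2.2]; simp

theorem not_isCyclic (h : Setup S) : ¬ IsCyclic (S : Subgroup K) := by
  intro hcy
  obtain ⟨s, hs⟩ := hcy.exists_ofOrder_eq_natCard
  have : orderOf s ∣ 3 := orderOf_dvd_of_pow_eq_one (Subtype.ext (h.exp s.1 s.2))
  rw [hs, h.card] at this
  exact absurd (Nat.le_of_dvd (by norm_num) this) (by norm_num)

theorem exists_coord' (h : Setup S) :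
    ∃ ι : V →* K, Function.Injective ι ∧ ι.range = (S : Subgroup K) := by
  obtain ⟨x, hx, hx1⟩ := (S : Subgroup K).bot_or_exists_ne_one.resolve_left fun hb => by
    have := h.card
    rw [hb, Subgroup.card_bot] at this
    norm_num at this
  obtain ⟨y, hy, hyx⟩ : ∃ y ∈ (S : Subgroup K), y ∉ Subgroup.zpowers x := by
    by_contra hcon
    push Not at hcon
    have := Subgroup.card_le_of_le (show (S : Subgroup K) ≤ Subgroup.zpowers x from hcon)
    rw [h.card, Nat.card_zpowers] at this
    have := Nat.le_of_dvd (by norm_num) (orderOf_dvd_of_pow_eq_one (h.exp x hx))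
    omega
  obtain ⟨ι, h1, h2, -, -⟩ := exists_coord h hx hx1 hy hyx
  exact ⟨ι, h1, h2⟩

/-- A normal subgroup of order prime to three is trivial. -/
theorem eq_bot_of_not_dvd (h : Setup S) (R : Subgroup K) [R.Normal] (hR : ¬ 3 ∣ Nat.card R) :
    R = ⊥ := by
  haveI : IsMulCommutative (S : Subgroup K) := ⟨⟨fun a b => Subtype.ext (h.comm a.2 b.2)⟩⟩
  have hcop : (Nat.card (S : Subgroup K)).Coprime (Nat.card R) := by
    rw [h.card, show 9 = 3 ^ 2 by rfl]
    exact ((Nat.Prime.coprime_iff_not_dvd Nat.prime_three).2 hR).pow_left 2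
  refine (Coprime.eq_of_forall_centralizer_le (not_isCyclic h) ?_ hcop bot_le fun a ha ha1 => ?_).symm
  · rw [Subgroup.normalizer_eq_top_iff.2 (inferInstance : R.Normal)]
    exact le_top
  · rw [h.cent a ha ha1, inf_comm]
    exact le_of_eq (Subgroup.inf_eq_bot_of_coprime hcop)

/-- If the Sylow subgroup is its own normaliser it is the whole group. -/
theorem normal_of_card_nine (h : Setup S)
    (hN : Nat.card (Subgroup.normalizer ((S : Subgroup K) : Set K)) = 9) :
    (S : Subgroup K).Normal := by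
  haveI := Fact.mk Nat.prime_three
  have heq : Subgroup.normalizer ((S : Subgroup K) : Set K) = (S : Subgroup K) :=
    (Subgroup.eq_of_le_of_card_ge Subgroup.le_normalizer (by rw [hN, h.card])).symm
  have hburn : Subgroup.normalizer ((S : Subgroup K) : Set K) ≤
      Subgroup.centralizer ((S : Subgroup K) : Set K) := by
    rw [heq]
    exact fun a ha => Subgroup.mem_centralizer_iff.2 fun b hb => h.comm hb ha
  have hcompl := MonoidHom.ker_transferSylow_isComplement' S hburn
  rw [eq_bot_of_not_dvd h _ (MonoidHom.not_dvd_card_ker_transferSylow S hburn),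
    Subgroup.isComplement'_bot_left] at hcompl
  rw [hcompl]
  infer_instance

/-- The hypotheses pass to subgroups containing the Sylow subgroup. -/
theorem Setup.subtype (h : Setup S) {L : Subgroup K} (hSL : (S : Subgroup K) ≤ L) :
    Setup (S.subtype hSL) where
  card := by
    rw [show ((S.subtype hSL : Sylow 3 L) : Subgroup L) = (S : Subgroup K).subgroupOf L from
      Sylow.coe_subtype .., Nat.card_congr (Subgroup.subgroupOfEquivOfLe hSL).toEquiv, h.card]
  exp s hs := Subtype.ext (h.exp s.1 hs)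
  cent s hs hs1 := by
    ext g
    rw [Subgroup.mem_centralizer_singleton_iff, Sylow.coe_subtype, Subgroup.mem_subgroupOf]
    refine ⟨fun hg => ?_, fun hg => Subtype.ext (h.comm hg hs)⟩
    exact h.mem_of_commute hs (fun h1 => hs1 (Subtype.ext h1)) (congrArg Subtype.val hg)

theorem normal_of_subtype {L : Subgroup K} [L.Normal] (hSL : (S : Subgroup K) ≤ L)
    (hn : ((S.subtype hSL : Sylow 3 L) : Subgroup L).Normal) : (S : Subgroup K).Normal := by
  haveI := Fact.mk Nat.prime_three
  rw [← Subgroup.normalizer_eq_top_iff]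
  have hLN : L ≤ Subgroup.normalizer ((S : Subgroup K) : Set K) :=
    (Subgroup.normal_subgroupOf_iff_le_normalizer hSL).1 (by rwa [Sylow.coe_subtype] at hn)
  have := Sylow.normalizer_sup_eq_top' (N := L) S hSL
  exact (sup_eq_left.2 hLN).symm.trans this

/-- The multiplicity of a linear character in the restriction to the Sylow subgroup. -/
theorem exists_mult {K : Type u} [Group K] [Fintype K] (ι : V →* K) (χ : IrrCharacter K)
    (θ : V →* ℂ) : ∃ m : ℤ, ∑ v : V, χ.1 (ι v) * θ v⁻¹ = 9 * (m : ℂ) := by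
  obtain ⟨m, hm⟩ := Char.IsGeneralizedCharacter.exists_int_classInner
    (Char.IsCharacter.isGeneralized (Char.IsCharacter.comp (Char.irr_isCharacter χ) ι))
    (Char.IsCharacter.isGeneralized
      (Char.IsIrrCharacter.isCharacter (Char.isIrrCharacter_of_monoidHom θ)))
  refine ⟨m, ?_⟩
  rw [← hm, classInner, show Nat.card V = 9 by rw [Nat.card_eq_fintype_card]; rfl]
  push_cast
  rw [← mul_assoc, mul_inv_cancel₀ (by norm_num : (9 : ℂ) ≠ 0), one_mul]
  refine Finset.sum_congr rfl fun v _ => ?_
  rw [Char.IsCharacter.conj_apply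
    (Char.IsIrrCharacter.isCharacter (Char.isIrrCharacter_of_monoidHom θ)) v]

theorem sum_v {R : Type*} [AddCommMonoid R] (F : V → R) :
    ∑ v, F v = F (1, 1) + F (1, γ) + F (1, γ * γ) + (F (γ, 1) + F (γ, γ) + F (γ, γ * γ)) +
      (F (γ * γ, 1) + F (γ * γ, γ) + F (γ * γ, γ * γ)) := by
  rw [Fintype.sum_prod_type, ThreeByS3.sum_c3, ThreeByS3.sum_c3, ThreeByS3.sum_c3, ThreeByS3.sum_c3]

end Cfsg.Agent.Exceptional.SelfNine
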