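import Cfsg.Agent.Lib.Exceptional.SelfNine.Arith

/-!
# The two vectors attached to a normaliser of order 36
-/

set_option autoImplicit false

namespace Cfsg.Agent.Exceptional.SelfNine

theorem four_core {ι : Type*} [Fintype ι] [DecidableEq ι] {i₀ : ι} {d a b : ι → ℤ}
    (hd : ∀ i, 0 < d i) (hd0 : d i₀ = 1) (ha0 : a i₀ = 1) (hb0 : b i₀ = 0)
    (hbb : ∑ i, b i * b i = 2) (hab : ∑ i, a i * b i = -1) (haa : ∑ i, a i * a i = 5)
    (had : ∑ i, a i * d i = 0) (hbd : ∑ i, b i * d i = 0)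
    (hcong : ∀ i, 9 ∣ d i + 8 * a i + 4 * b i) (k : ℕ) (hk : k % 9 = 1)
    (hcubic : (36 * k : ℚ) * ∑ i, (((a i + 2 * b i) * (a i + 2 * b i) * (a i - b i) : ℤ) : ℚ) / (d i : ℚ)
      = 162) :
    k = 1 ∨ k = 10 ∨ ∃ i, i ≠ i₀ ∧ d i = 1 ∧ a i = 1 ∧ b i = 0 := by
  classical
  -- the support of `b`
  set s := Finset.univ.filter fun i => b i ≠ 0 with hs
  have hb_mem : ∀ i ∈ s, b i = 1 ∨ b i = -1 := by
    intro i hi
    have h2 : b i * b i ≤ 2 :=
      hbb ▸ Finset.single_le_sum (f := fun j => b j * b j) (fun j _ => mul_self_nonneg _) (Finset.mem_univ i)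
    have hne := (Finset.mem_filter.1 hi).2
    have : -1 ≤ b i ∧ b i ≤ 1 := ⟨by nlinarith, by nlinarith⟩
    omega
  have hsum_s : ∀ F : ι → ℤ, ∑ i, b i * F i = ∑ i ∈ s, b i * F i := fun F => by
    rw [hs, Finset.sum_filter_of_ne (p := fun i => b i ≠ 0) fun i _ h hb => h (by rw [hb, zero_mul])]
  have hs2 : s.card = 2 := by
    have h1 : ∑ i ∈ s, b i * b i = ∑ i ∈ s, (1 : ℤ) :=
      Finset.sum_congr rfl fun i hi => by rcases hb_mem i hi with h | h <;> simp [h]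
    rw [← hsum_s, hbb] at h1
    simp at h1
    exact_mod_cast h1.symm
  obtain ⟨x, y, hxy, hsxy⟩ := Finset.card_eq_two.1 hs2
  obtain ⟨ψ, φ, hψφ, hsψ, hbψ, hbφ⟩ : ∃ ψ φ, ψ ≠ φ ∧ s = {ψ, φ} ∧ b ψ = 1 ∧ b φ = -1 := by
    have hd' : b x * d x + b y * d y = 0 := by
      rw [← Finset.sum_pair (f := fun i => b i * d i) hxy, ← hsxy]; exact (hsum_s d).symm.trans hbd
    have := hd x
    have := hd y
    rcases hb_mem x (by simp [hsxy]) with h1 | h1 <;> rcases hb_mem y (by simp [hsxy]) with h2 | h2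
    · rw [h1, h2] at hd'; omega
    · exact ⟨x, y, hxy, hsxy, h1, h2⟩
    · exact ⟨y, x, hxy.symm, by rw [hsxy, Finset.pair_comm], h2, h1⟩
    · rw [h1, h2] at hd'; omega
  have hbz : ∀ i, i ≠ ψ → i ≠ φ → b i = 0 := fun i h1 h2 => by
    by_contra h
    have : i ∈ s := Finset.mem_filter.2 ⟨Finset.mem_univ i, h⟩
    simp [hsψ, h1, h2] at this
  have hf : d φ = d ψ := by
    have := hbd
    rw [hsum_s, hsψ, Finset.sum_pair hψφ, hbψ, hbφ] at this
    omega
  have hst : a φ = a ψ + 1 := by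
    have := hab
    rw [Finset.sum_congr rfl fun i _ => mul_comm (a i) (b i), hsum_s, hsψ, Finset.sum_pair hψφ, hbψ,
      hbφ] at this
    omega
  have hψ0 : ψ ≠ i₀ := fun h => by rw [h, hb0] at hbψ; omega
  have hφ0 : φ ≠ i₀ := fun h => by rw [h, hb0] at hbφ; omega
  -- the other entries of `a`
  set t := (((Finset.univ.erase i₀).erase ψ).erase φ).filter fun i => a i ≠ 0 with ht
  have hsplit : ∀ F : ι → ℤ,
      ∑ i, F i = F i₀ + (F ψ + (F φ + ∑ i ∈ ((Finset.univ.erase i₀).erase ψ).erase φ, F i)) := by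
    intro F
    rw [Finset.add_sum_erase _ _ (by simp [hψφ.symm, hφ0]), Finset.add_sum_erase _ _ (by simp [hψ0]),
      Finset.add_sum_erase _ _ (Finset.mem_univ i₀)]
  have haat : ∑ i ∈ t, a i * a i = 4 - a ψ * a ψ - (a ψ + 1) * (a ψ + 1) := by
    have h1 := hsplit fun i => a i * a i
    rw [haa, ha0, hst] at h1
    rw [ht, Finset.sum_filter_of_ne (p := fun i => a i ≠ 0) fun i _ h hz => h (by rw [hz, mul_zero])]
    linarith
  have hψ01 : a ψ = 0 ∨ a ψ = -1 := by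
    have h0 : 0 ≤ ∑ i ∈ t, a i * a i := Finset.sum_nonneg fun i _ => mul_self_nonneg _
    have : -1 ≤ a ψ ∧ a ψ ≤ 0 := ⟨by nlinarith, by nlinarith⟩
    omega
  have haat3 : ∑ i ∈ t, a i * a i = 3 := by
    rcases hψ01 with h | h <;> rw [haat, h] <;> rfl
  have ht1 : ∀ i ∈ t, a i = 1 ∨ a i = -1 := fun i hi => by
    have h3 : a i * a i ≤ 3 :=
      haat3 ▸ Finset.single_le_sum (f := fun j => a j * a j) (fun j _ => mul_self_nonneg _) hi
    have hne := (Finset.mem_filter.1 hi).2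
    have : -1 ≤ a i ∧ a i ≤ 1 := ⟨by nlinarith, by nlinarith⟩
    omega
  have ht3 : t.card = 3 := by
    have h1 : ∑ i ∈ t, a i * a i = ∑ i ∈ t, (1 : ℤ) :=
      Finset.sum_congr rfl fun i hi => by rcases ht1 i hi with h | h <;> simp [h]
    rw [haat3] at h1
    simp at h1
    exact_mod_cast h1.symm
  obtain ⟨p, q, r, hpq, hpr, hqr, htpqr⟩ := Finset.card_eq_three.1 ht3
  have hmem : ∀ i ∈ t, i ≠ i₀ ∧ i ≠ ψ ∧ i ≠ φ ∧ b i = 0 := fun i hi => by
    have := (Finset.mem_filter.1 hi).1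
    simp only [Finset.mem_erase, Finset.mem_univ, and_true] at this
    exact ⟨this.2.2, this.2.1, this.1, hbz i this.2.1 this.1⟩
  -- sums over the support
  have hQ : ∀ F : ι → ℚ, (∀ i, i ≠ i₀ → i ≠ ψ → i ≠ φ → a i = 0 → F i = 0) →
      ∑ i, F i = F i₀ + (F ψ + (F φ + (F p + F q + F r))) := by
    intro F hF
    rw [← Finset.add_sum_erase _ _ (Finset.mem_univ i₀),
      ← Finset.add_sum_erase _ _ (show ψ ∈ Finset.univ.erase i₀ by simp [hψ0]),
      ← Finset.add_sum_erase _ _ (show φ ∈ (Finset.univ.erase i₀).erase ψ by simp [hψφ.symm, hφ0]),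
      ← Finset.sum_filter_of_ne (p := fun i => a i ≠ 0) (fun i hi h hz => h (by
        simp only [Finset.mem_erase, Finset.mem_univ, and_true] at hi
        exact hF i hi.2.2 hi.2.1 hi.1 hz)), ← ht, htpqr,
      Finset.sum_insert (by simp [hpq, hpr]), Finset.sum_pair hqr]
    ring
  by_cases hlin : ∃ i ∈ t, d i = 1 ∧ a i = 1
  · obtain ⟨i, hi, h1, h2⟩ := hlin
    exact Or.inr (Or.inr ⟨i, (hmem i hi).1, h1, h2, (hmem i hi).2.2.2⟩)
  push Not at hlin
  set D₀ := (2 * a ψ + 1) * d ψ with hD0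
  have hD : ∀ i ∈ t, a i * d i % 9 = 1 := fun i hi => by
    have h9 := hcong i
    rw [(hmem i hi).2.2.2] at h9
    rcases ht1 i hi with h | h <;> rw [h] at h9 ⊢ <;> omega
  have hD0' : D₀ % 9 = 5 := by
    have h9 := hcong ψ
    rw [hbψ] at h9
    rcases hψ01 with h | h <;> rw [hD0, h] <;> rw [h] at h9 <;> omega
  have hsum : 1 + D₀ + a p * d p + a q * d q + a r * d r = 0 := by
    have h1 := hQ (fun i => ((a i * d i : ℤ) : ℚ)) fun i _ _ _ hz => by simp [hz]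
    rw [← Int.cast_sum, had, Int.cast_zero, ha0, hd0, hst, hf] at h1
    have h2 : ((1 + D₀ + a p * d p + a q * d q + a r * d r : ℤ) : ℚ) = ((0 : ℤ) : ℚ) := by
      rw [hD0]; push_cast at h1 ⊢; linear_combination -h1
    exact_mod_cast h2
  have hp : p ∈ t := by simp [htpqr]
  have hq : q ∈ t := by simp [htpqr]
  have hr : r ∈ t := by simp [htpqr]
  have hne1 : ∀ i ∈ t, a i * d i ≠ 1 := fun i hi h => by
    rcases ht1 i hi with h1 | h1 <;> rw [h1] at h
    · exact hlin i hi (by omega) h1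
    · have := hd i; omega
  have hcub : ∀ i ∈ t,
      (((a i + 2 * b i) * (a i + 2 * b i) * (a i - b i) : ℤ) : ℚ) / (d i : ℚ) =
        1 / ((a i * d i : ℤ) : ℚ) := fun i hi => by
    rw [(hmem i hi).2.2.2]
    rcases ht1 i hi with h | h <;> rw [h] <;> push_cast <;> ring
  rw [hQ (fun i => (((a i + 2 * b i) * (a i + 2 * b i) * (a i - b i) : ℤ) : ℚ) / (d i : ℚ))
    (fun i _ h2 h3 hz => by simp [hz, hbz i h2 h3]), hcub p hp, hcub q hq, hcub r hr, ha0, hb0, hd0,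
    hst, hf, hbψ, hbφ] at hcubic
  rcases order_bound D₀ _ _ _ k hD0' (hD p hp) (hD q hq) (hD r hr) hsum hk (by
      rw [← hcubic, hD0]
      rcases hψ01 with h | h <;> rw [h] <;> push_cast <;> ring) with h | h
  · exact Or.inl h
  · exact Or.inr (Or.inl h)

end Cfsg.Agent.Exceptional.SelfNine
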