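import Cfsg.Agent.Lib.Exceptional.SelfNine.Coord

/-!
# The group `3² : 4`
-/

set_option autoImplicit false

namespace Cfsg.Agent.Exceptional.SelfNine

open ThreeByS3 (C3 γ)

/-- The action of a generator of the cyclic group of order four. -/
def rot (v : V) : V := (v.2⁻¹, v.1)

/-- Its powers. -/
def rotPow : ZMod 4 → V → V := fun k v => rot^[k.val] v

/-- The group `3² : 4`. -/
structure F36 where
  /-- The translation part. -/
  v : V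
  /-- The rotation part. -/
  k : ZMod 4
  deriving DecidableEq, Fintype

theorem rotPow_add : ∀ (k l : ZMod 4) (v : V), rotPow (k + l) v = rotPow k (rotPow l v) := by
  decide +kernel

theorem rotPow_mul : ∀ (k : ZMod 4) (v w : V), rotPow k (v * w) = rotPow k v * rotPow k w := by
  decide +kernel

theorem rotPow_zero : ∀ v : V, rotPow 0 v = v ∧ rotPow 0 v⁻¹ = v⁻¹ := by decide +kernel

instance instMulF36 : Mul F36 := ⟨fun x y => ⟨x.v * rotPow x.k y.v, x.k + y.k⟩⟩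
instance instOneF36 : One F36 := ⟨⟨1, 0⟩⟩
instance instInvF36 : Inv F36 := ⟨fun x => ⟨rotPow (-x.k) x.v⁻¹, -x.k⟩⟩

instance instGroupF36 : Group F36 :=
  Group.ofLeftAxioms
    (fun ⟨a, i⟩ ⟨b, j⟩ ⟨c, l⟩ => by
      show F36.mk (a * rotPow i b * rotPow (i + j) c) (i + j + l) =
        F36.mk (a * rotPow i (b * rotPow j c)) (i + (j + l))
      rw [rotPow_mul, rotPow_add, mul_assoc, add_assoc])
    (fun ⟨a, i⟩ => by
      show F36.mk (1 * rotPow 0 a) (0 + i) = _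
      rw [(rotPow_zero a).1, one_mul, zero_add])
    (fun ⟨a, i⟩ => by
      show F36.mk (rotPow (-i) a⁻¹ * rotPow (-i) a) (-i + i) = F36.mk 1 0
      rw [← rotPow_mul, inv_mul_cancel, neg_add_cancel]
      congr 1
      have : ∀ k, rotPow k 1 = 1 := by decide +kernel
      exact this _)

theorem card_F36 : Fintype.card F36 = 36 := by decide +kernel

/-- A translation. -/
def tr (v : V) : F36 := ⟨v, 0⟩

theorem count_pairs : (Finset.univ.filter fun p : F36 × F36 =>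
    p.1 * tr (γ, 1) * p.1⁻¹ * (p.2 * tr (γ, 1) * p.2⁻¹) = tr (γ, γ)).card = 162 := by decide +kernel

theorem not_fused : (∀ (k : ZMod 4), rotPow k (γ, 1) ≠ (γ, γ)) ∧
    rotPow 2 (γ, 1) = (γ, 1)⁻¹ ∧ rotPow 2 (γ, γ) = ((γ, γ) : V)⁻¹ ∧ rotPow 1 (γ, 1) = (1, γ) ∧
    rotPow 2 (1, γ) = ((1, γ) : V)⁻¹ ∧ rotPow 1 (γ, γ) = (γ * γ, γ) ∧
    rotPow 2 (γ * γ, γ) = (γ, γ * γ) ∧ ((γ, 1) : V)⁻¹ = (γ * γ, 1) ∧ ((1, γ) : V)⁻¹ = (1, γ * γ) ∧
    ((γ, γ) : V)⁻¹ = (γ * γ, γ * γ) ∧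
    ((γ, 1) : V) ≠ 1 ∧ ((γ, γ) : V) ≠ 1 ∧ rot (γ, 1) = (1, γ) ∧ rot (1, γ) = (γ, 1)⁻¹ := by
  decide +kernel

theorem span_rot : ∀ w : V, w ≠ 1 → ∀ v : V, ∃ i j : Fin 3,
    v = w ^ i.val * (rotPow 1 w) ^ j.val := by decide +kernel

theorem gen_V : ∀ v : V, ∃ i j : Fin 3, v = ((γ, 1) : V) ^ i.val * ((1, γ) : V) ^ j.val := by
  decide +kernel

theorem rot_facts : (∀ a b : V, rot (a * b) = rot a * rot b) ∧ rot 1 = 1 ∧
    (∀ (e : F36) (v : V), (e * tr v * e⁻¹).v = rotPow e.k v) ∧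
    (∀ (k : ZMod 4) (v : V), (⟨1, k⟩ : F36) * tr v * (⟨1, k⟩ : F36)⁻¹ = tr (rotPow k v)) ∧
    (γ⁻¹ = γ * γ ∧ (γ * γ)⁻¹ = γ ∧ γ * γ * γ = 1) ∧
    (∀ i : ZMod 4, i = 0 ∨ i.val = 1 ∨ i.val = 2 ∨ i.val = 3) := by
  decide +kernel

end Cfsg.Agent.Exceptional.SelfNine
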