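import Cfsg.Agent.Lib.Exceptional.SelfNine.Two
import Cfsg.Agent.Lib.Exceptional.SelfNine.Model
import Cfsg.Agent.Lib.Exceptional.SelfNine.FourCore

/-!
# A normaliser of order 36

When the normaliser of the self-centralising Sylow subgroup of order 9 has order 36, the Sylow
subgroup is normal or the group is simple of order 360.
-/

set_option autoImplicit false

namespace Cfsg.Agent.Exceptional.SelfNine

open Cfsg
open ThreeByS3 (C3 γ)

universe u

variable {K : Type u} [Group K] [Finite K] {S : Sylow 3 K}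

theorem pow_four_mem (h : Setup S)
    (hN : Nat.card (Subgroup.normalizer ((S : Subgroup K) : Set K)) = 36) {g : K}
    (hg : g ∈ Subgroup.normalizer ((S : Subgroup K) : Set K)) : g ^ 4 ∈ (S : Subgroup K) := by
  set N := Subgroup.normalizer ((S : Subgroup K) : Set K)
  have hle : (S : Subgroup K) ≤ N := Subgroup.le_normalizer
  haveI : ((S : Subgroup K).subgroupOf N).Normal := Subgroup.normal_in_normalizer
  have hidx : ((S : Subgroup K).subgroupOf N).index = 4 := by
    have := ((S : Subgroup K).subgroupOf N).card_mul_index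
    rw [Nat.card_congr (Subgroup.subgroupOfEquivOfLe hle).toEquiv, h.card, hN] at this
    omega
  have hp := Subgroup.pow_index_mem ((S : Subgroup K).subgroupOf N) (⟨g, hg⟩ : N)
  rw [hidx, Subgroup.mem_subgroupOf, SubgroupClass.coe_pow] at hp
  exact hp

theorem invol_inverts (h : Setup S) {t : K} (ht : t * t = 1) (ht1 : t ≠ 1)
    (htN : t ∈ Subgroup.normalizer ((S : Subgroup K) : Set K)) :
    ∀ s ∈ (S : Subgroup K), t * s * t = s⁻¹ := by
  intro s hs
  have hti : t⁻¹ = t := inv_eq_of_mul_eq_one_right ht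
  have hts : t * s * t ∈ (S : Subgroup K) := by
    have := (Subgroup.mem_normalizer_iff.1 htN s).1 hs
    rwa [hti] at this
  refine (inv_eq_of_mul_eq_one_right ?_).symm
  by_contra hne1
  have htS : t ∈ (S : Subgroup K) := h.mem_of_commute (mul_mem hs hts) hne1 (by
    calc t * (s * (t * s * t)) = t * s * t * (s * t) := by simp only [mul_assoc]
      _ = s * (t * s * t) * t := by rw [← mul_assoc (t * s * t) s, h.comm hts hs])
  exact ht1 (by
    calc t = t ^ 3 * (t * t)⁻¹ := by group
      _ = 1 := by rw [h.exp _ htS, ht]; group)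

theorem exists_rotation (h : Setup S)
    (hN : Nat.card (Subgroup.normalizer ((S : Subgroup K) : Set K)) = 36) :
    ∃ c ∈ Subgroup.normalizer ((S : Subgroup K) : Set K), c ^ 4 = 1 ∧ c * c ≠ 1 ∧
      c * c ∉ (S : Subgroup K) ∧ ∀ s ∈ (S : Subgroup K), c * c * s * (c * c) = s⁻¹ := by
  set N := Subgroup.normalizer ((S : Subgroup K) : Set K) with hNdef
  have h36 : ∀ g ∈ N, g ^ 36 = 1 := fun g hg => by
    have := pow_card_eq_one' (x := (⟨g, hg⟩ : N))
    rw [hN] at this
    exact congrArg Subtype.val this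
  obtain ⟨g, hg, hg2⟩ : ∃ g ∈ N, g * g ∉ (S : Subgroup K) := by
    by_contra hcon
    push Not at hcon
    -- all elements outside `S` would invert `S`
    have hkey : ∀ g ∈ N, g ∉ (S : Subgroup K) → ∀ s ∈ (S : Subgroup K), g * s * g⁻¹ = s⁻¹ := by
      intro g hg hgS s hs
      have ht : g ^ 3 * g ^ 3 = 1 := by
        rw [← pow_add, show 3 + 3 = 2 * 3 by rfl, pow_mul, sq]; exact h.exp _ (hcon g hg)
      have hg2S : g * g ∈ (S : Subgroup K) := hcon g hg
      have ht1 : g ^ 3 ≠ 1 := fun h1 => hgS (by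
        rw [show g = (g * g) * (g * g) * (g ^ 3)⁻¹ by group, h1, inv_one, mul_one]
        exact mul_mem hg2S hg2S)
      have hi := invol_inverts h ht ht1 (pow_mem hg 3) s hs
      have hc := h.comm hg2S hs
      have hti : (g ^ 3)⁻¹ = g ^ 3 := inv_eq_of_mul_eq_one_right ht
      calc g * s * g⁻¹ = (g * g)⁻¹ * (g ^ 3 * s * (g ^ 3)⁻¹) * (g * g) := by group
        _ = (g * g)⁻¹ * s⁻¹ * (g * g) := by rw [hti, hi]
        _ = s⁻¹ := by rw [mul_assoc, ← h.comm hg2S (inv_mem hs)]; group
    have hidx : ((S : Subgroup K).subgroupOf N).index = 4 := by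
      have := ((S : Subgroup K).subgroupOf N).card_mul_index
      rw [Nat.card_congr (Subgroup.subgroupOfEquivOfLe Subgroup.le_normalizer).toEquiv, h.card, hN]
        at this
      omega
    obtain ⟨a, ha⟩ : ∃ a : N, (a : K) ∉ (S : Subgroup K) := by
      by_contra hall
      push Not at hall
      have := Subgroup.card_le_of_le (show N ≤ (S : Subgroup K) from fun x hx => hall ⟨x, hx⟩)
      rw [hN, h.card] at this
      omega
    have hle2 : ((S : Subgroup K).subgroupOf N).index ≤ 2 := by
      rw [Subgroup.index_eq_card]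
      refine le_trans (Nat.card_le_card_of_surjective
        (fun b : Fin 2 => QuotientGroup.mk (s := (S : Subgroup K).subgroupOf N) (if b = 0 then 1 else a))
        (Quotient.ind' fun x => ?_)) (le_of_eq (Nat.card_eq_fintype_card.trans rfl))
      by_cases hx : (x : K) ∈ (S : Subgroup K)
      · refine ⟨0, QuotientGroup.eq.2 ?_⟩
        simpa using (show x ∈ (S : Subgroup K).subgroupOf N from hx)
      · refine ⟨1, QuotientGroup.eq.2 ?_⟩
        simp only [show (1 : Fin 2) ≠ 0 by decide, if_false]
        rw [Subgroup.mem_subgroupOf, Subgroup.coe_mul, Subgroup.coe_inv]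
        obtain ⟨s, hs, hs1⟩ := (S : Subgroup K).bot_or_exists_ne_one.resolve_left fun hb => by
          have := h.card
          rw [hb, Subgroup.card_bot] at this
          norm_num at this
        refine h.mem_of_commute hs hs1 ?_
        have e1 := hkey _ x.2 hx s hs
        calc ((a : K))⁻¹ * x * s = (a : K)⁻¹ * (x * s * (x : K)⁻¹) * x := by group
          _ = (a : K)⁻¹ * (a * s * (a : K)⁻¹) * x := by rw [e1, hkey _ a.2 ha s hs]
          _ = s * ((a : K)⁻¹ * x) := by group
    omega
  refine ⟨g ^ 9, pow_mem hg 9, ?_, ?_, ?_, ?_⟩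
  · rw [← pow_mul]; exact h36 g hg
  all_goals
    have hns : g ^ 9 * g ^ 9 ∉ (S : Subgroup K) := fun hS => hg2 (by
      have h4 := pow_four_mem h hN hg
      have : g * g = (g ^ 9 * g ^ 9) * ((g ^ 4) ^ 4)⁻¹ := by rw [← pow_two]; group
      rw [this]
      exact mul_mem hS (inv_mem (pow_mem h4 4)))
  · exact fun h1 => hns (h1 ▸ one_mem _)
  · exact hns
  · intro s hs
    refine invol_inverts h ?_ (fun h1 => hns (by rw [h1]; exact one_mem _)) (mul_mem (pow_mem hg 9) (pow_mem hg 9)) s hs
    rw [← pow_add, ← pow_add]; exact h36 g hg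

end Cfsg.Agent.Exceptional.SelfNine
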