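import Cfsg.Agent.Lib.Exceptional.SelfNine.Four

/-!
# The dichotomy for a normaliser of order 36
-/

set_option autoImplicit false

namespace Cfsg.Agent.Exceptional.SelfNine

open Cfsg
open ThreeByS3 (C3 γ)
open scoped commutatorElement

/-- In a free action outside one point the degree is one modulo the group order. -/
theorem card_modEq_one_of_free {A X : Type*} [Group A] [Finite A] [MulAction A X] [Finite X] (x₀ : X)
    (hfix : ∀ a : A, a • x₀ = x₀) (hfree : ∀ x ≠ x₀, ∀ a : A, a • x = x → a = 1) :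
    Nat.card X ≡ 1 [MOD Nat.card A] := by
  classical
  haveI := Fintype.ofFinite (Quotient (MulAction.orbitRel A X))
  rw [Nat.card_congr (MulAction.selfEquivSigmaOrbitsQuotientStabilizer A X), Nat.card_sigma,
    ← Finset.add_sum_erase _ _ (Finset.mem_univ (⟦x₀⟧ : Quotient (MulAction.orbitRel A X)))]
  have hout : ∀ ω : Quotient (MulAction.orbitRel A X), ω.out = x₀ → ω = ⟦x₀⟧ := fun ω h => by
    rw [← h, Quotient.out_eq]
  have h0 : Quotient.out (⟦x₀⟧ : Quotient (MulAction.orbitRel A X)) = x₀ := by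
    obtain ⟨a, ha⟩ := Quotient.exact (Quotient.out_eq (⟦x₀⟧ : Quotient (MulAction.orbitRel A X)))
    rw [← ha]; exact hfix a
  have h1 : Nat.card (A ⧸ MulAction.stabilizer A
      (Quotient.out (⟦x₀⟧ : Quotient (MulAction.orbitRel A X)))) = 1 := by
    rw [h0, ← Subgroup.index_eq_card, Subgroup.index_eq_one]
    exact eq_top_iff.2 fun a _ => hfix a
  rw [h1, Finset.sum_congr rfl fun ω hω => ?_, Finset.sum_const, smul_eq_mul]
  rotate_left
  · exact Nat.card A
  · rw [← Subgroup.index_eq_card, show MulAction.stabilizer A ω.out = ⊥ from ?_, Subgroup.index_bot]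
    exact (Subgroup.eq_bot_iff_forall _).2 fun a ha =>
      hfree _ (fun h => (Finset.mem_erase.1 hω).1 (hout ω h)) a ha
  exact (Nat.modEq_iff_dvd' (by omega)).2 (by simp) |>.symm

universe u

variable {K : Type u} [Group K] [Finite K] {S : Sylow 3 K}

theorem normal_or_simple (h : Setup S)
    (hN : Nat.card (Subgroup.normalizer ((S : Subgroup K) : Set K)) = 36) :
    (S : Subgroup K).Normal ∨ Nat.card K = 360 ∧ IsSimpleGroup K := by
  classical
  haveI := Fintype.ofFinite K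
  haveI := Fact.mk Nat.prime_three
  set N := Subgroup.normalizer ((S : Subgroup K) : Set K) with hNdef
  obtain ⟨c, hcN, hc4, hc2, hc2S, hcinv⟩ := exists_rotation h hN
  have hcconj : ∀ s ∈ (S : Subgroup K), c * s * c⁻¹ ∈ (S : Subgroup K) :=
    fun s hs => (Subgroup.mem_normalizer_iff.1 hcN s).1 hs
  have hc22 : (c * c)⁻¹ = c * c := inv_eq_of_mul_eq_one_right (by
    rw [← hc4]; simp only [pow_succ, pow_zero, one_mul, mul_assoc])
  obtain ⟨x, hx, hx1⟩ := (S : Subgroup K).bot_or_exists_ne_one.resolve_left fun hb => by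
    have := h.card
    rw [hb, Subgroup.card_bot] at this
    norm_num at this
  set y := c * x * c⁻¹ with hy
  have hyS : y ∈ (S : Subgroup K) := hcconj x hx
  have hcy : c * y * c⁻¹ = x⁻¹ := by
    rw [← hcinv x hx, hy]
    conv_rhs => arg 2; rw [← hc22]
    group
  have hyx : y ∉ Subgroup.zpowers x := by
    intro hm
    obtain ⟨m, hm'⟩ := Subgroup.mem_zpowers_iff.1 hm
    have h3 : x ^ (3 : ℤ) = 1 := by exact_mod_cast h.exp x hx
    have hm3 : m % 3 = 0 ∨ m % 3 = 1 ∨ m % 3 = 2 := by omega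
    have hxx : x⁻¹ = x * x := inv_eq_of_mul_eq_one_right (by rw [← mul_assoc]; exact h.cube hx)
    have hxm : x ^ m = x ^ (m % 3) := by
      conv_lhs => rw [← Int.emod_add_mul_ediv m 3, zpow_add, zpow_mul, h3, one_zpow, mul_one]
    have hne : x⁻¹ ≠ x := fun he => hx1 (by
      calc x = x * x * x * (x * x)⁻¹ := by group
        _ = 1 := by rw [h.cube hx, ← hxx, inv_inv, one_mul]; exact (show x = 1 from by
                      have h2 : x * x = x := hxx.symm.trans he
                      exact mul_eq_left.1 h2))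
    rcases hm3 with hr | hr | hr <;> rw [hxm, hr] at hm'
    · exact hx1 (conj_eq_one_iff.1 (hy ▸ hm'.symm.trans (zpow_zero x)))
    · rw [zpow_one] at hm'
      rw [← hm'] at hcy
      exact hne (hcy.symm.trans (hy.symm.trans hm'.symm))
    · rw [zpow_two, ← hxx] at hm'
      have h1 : c * x⁻¹ * c⁻¹ = x⁻¹ := by rw [← hm'] at hcy; exact hcy
      have h2 : c * x⁻¹ * c⁻¹ = x := by
        rw [show c * x⁻¹ * c⁻¹ = (c * x * c⁻¹)⁻¹ by group, ← hy, ← hm', inv_inv]
      exact hne (h1.symm.trans h2)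
  obtain ⟨ι, hinj, hrange, hιx, hιy⟩ := exists_coord h hx hx1 hyS hyx
  have hmem : ∀ v, ι v ∈ (S : Subgroup K) := fun v => hrange ▸ ⟨v, rfl⟩
  obtain ⟨hnf, hr2a, hr2b, hr1, hr2c, hr1b, hr2d, hia, hib, hic, hne1, hne2, hrot1, hrot2⟩ := not_fused
  -- the rotation acts as `rot`
  have hrot : ∀ v, c * ι v * c⁻¹ = ι (rot v) := by
    intro v
    obtain ⟨i, j, rfl⟩ := gen_V v
    have hmul := rot_facts.1
    let ρ : V →* V := { toFun := rot, map_one' := rot_facts.2.1, map_mul' := hmul }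
    show _ = ι (ρ _)
    rw [map_mul ρ, map_pow ρ, map_pow ρ, map_mul, map_mul, map_pow, map_pow, map_pow, map_pow, hιx, hιy,
      show ρ (γ, 1) = (1, γ) from hrot1, show ρ (1, γ) = (γ, 1)⁻¹ from hrot2, map_inv, hιx, hιy,
      ← hcy, hy]
    simp only [conj_pow]
    group
  let ψ : F36 →* K :=
    { toFun := fun g => ι g.v * c ^ g.k.val
      map_one' := by
        show ι 1 * c ^ (0 : ZMod 4).val = 1
        simp
      map_mul' := fun ⟨a, i⟩ ⟨b, j⟩ => by
        show ι (a * rotPow i b) * c ^ (i + j).val = ι a * c ^ i.val * (ι b * c ^ j.val)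
        have hpow : ∀ n : ℕ, ∀ b, c ^ n * ι b * (c ^ n)⁻¹ = ι (rot^[n] b) := by
          intro n
          induction n with
          | zero => intro b; simp
          | succ n ih =>
            intro b
            rw [Function.iterate_succ', Function.comp_apply, ← hrot, ← ih]
            group
        rw [map_mul, rotPow, ← hpow, ZMod.val_add, ← pow_eq_pow_mod _ hc4, pow_add]
        group }
  have hψ : ∀ g, ψ g = ι g.v * c ^ g.k.val := fun g => rfl
  have hψtr : ∀ v, ψ (tr v) = ι v := fun v => by simp [hψ, tr]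
  have hψinj : Function.Injective ψ := by
    rw [injective_iff_map_eq_one]
    rintro ⟨a, i⟩ hai
    rw [hψ] at hai
    have hci : c ^ i.val ∈ (S : Subgroup K) := by
      rw [show c ^ i.val = (ι a)⁻¹ from (inv_eq_of_mul_eq_one_right hai).symm]
      exact inv_mem (hmem a)
    have hi : i = 0 := by
      have hcases := rot_facts.2.2.2.2.2
      rcases hcases i with h0 | h1 | h1 | h1
      · exact h0
      all_goals rw [h1] at hci
      all_goals refine absurd ?_ hc2S
      · rw [pow_one] at hci; exact mul_mem hci hci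
      · rwa [pow_two] at hci
      · have := mul_mem hci hci
        rwa [← pow_add, show 3 + 3 = 4 + 2 by rfl, pow_add, hc4, one_mul, pow_two] at this
    subst hi
    rw [ZMod.val_zero, pow_zero, mul_one, ← map_one ι] at hai
    obtain rfl : a = 1 := hinj hai
    rfl
  have hψrange : ψ.range = N := by
    refine Subgroup.eq_of_le_of_card_ge ?_ ?_
    · rintro - ⟨g, rfl⟩
      rw [hψ]
      exact mul_mem (Subgroup.le_normalizer (hmem _)) (pow_mem hcN _)
    · rw [hN, ← Nat.card_congr (MonoidHom.ofInjective hψinj).toEquiv, Nat.card_eq_fintype_card,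
        card_F36]
  have hN' : ∀ n ∈ N, ∃ g, ψ g = n := fun n hn => show n ∈ ψ.range by rw [hψrange]; exact hn
  have hconjN : ∀ v w, IsConj (ι v) (ι w) → v ≠ 1 → ∃ k, rotPow k v = w := by
    intro v w hvw hv
    obtain ⟨g, hg⟩ := isConj_iff.1 hvw
    obtain ⟨e, rfl⟩ := hN' g (h.ctl (hmem v) (fun h1 => hv (hinj (h1.trans (map_one ι).symm)))
      (hg ▸ hmem w))
    refine ⟨e.k, ?_⟩
    have : e * tr v * e⁻¹ = tr w := hψinj (by rw [map_mul, map_mul, map_inv, hψtr, hψtr, hg])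
    have hv' := rot_facts.2.2.1
    rw [← hv', this]
    rfl
  have hcl : ∀ v k, ∀ χ : IrrCharacter K, χ.1 (ι (rotPow k v)) = χ.1 (ι v) := by
    intro v k χ
    have := rot_facts.2.2.2.1
    rw [← hψtr (rotPow k v), ← this, map_mul, map_mul, map_inv, hψtr,
      CharInt.char_conj_apply (Char.irr_isCharacter χ)]
  have hinvconj : ∀ v, (v = (γ, 1) ∨ v = (γ, γ)) → IsConj (ι v) (ι v)⁻¹ := fun v hv => by
    refine isConj_iff.2 ⟨c * c, ?_⟩
    rw [hc22]
    exact hcinv _ (hmem v)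
  let u : IrrCharacter K → ℂ := fun χ => χ.1 (ι (γ, 1))
  let w : IrrCharacter K → ℂ := fun χ => χ.1 (ι (γ, γ))
  have hval : ∀ χ : IrrCharacter K, χ.1 (ι (1, 1)) = χ.1 1 ∧ χ.1 (ι (1, γ)) = u χ ∧
      χ.1 (ι (1, γ * γ)) = u χ ∧ χ.1 (ι (γ, γ)) = w χ ∧ χ.1 (ι (γ, γ * γ)) = w χ ∧
      χ.1 (ι (γ * γ, 1)) = u χ ∧ χ.1 (ι (γ * γ, γ)) = w χ ∧ χ.1 (ι (γ * γ, γ * γ)) = w χ := by
    intro χ
    refine ⟨by rw [show ((1, 1) : V) = 1 from rfl, map_one], ?_, ?_, rfl, ?_, ?_, ?_, ?_⟩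
    · rw [← hr1, hcl]
    · rw [← hib, ← hr2c, hcl, ← hr1, hcl]
    · rw [← hr2d, hcl, ← hr1b, hcl]
    · rw [← hia, ← hr2a, hcl]
    · rw [← hr1b, hcl]
    · rw [← hic, ← hr2b, hcl]
  obtain ⟨chi, hω, hω3⟩ := ThreeByS3.exists_chi
  have hab : ∀ χ : IrrCharacter K, ∃ a b m : ℤ, (a : ℂ) = (u χ + 2 * w χ) / 3 ∧
      (b : ℂ) = (u χ - w χ) / 3 ∧ χ.1 1 + 4 * u χ + 4 * w χ = 9 * (m : ℂ) := by
    intro χ
    obtain ⟨v0, v1, v2, v3, v4, v5, v6, v7⟩ := hval χ
    have v8 : χ.1 (ι (γ, 1)) = u χ := rfl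
    have hi1 := rot_facts.2.2.2.2.1
    have hγ2 : chi (γ * γ) = chi γ ^ 2 := by rw [map_mul, sq]
    obtain ⟨m0, hm0⟩ := exists_mult ι χ 1
    obtain ⟨m1, hm1⟩ := exists_mult ι χ (chi.comp (MonoidHom.fst C3 C3))
    obtain ⟨m2, hm2⟩ := exists_mult ι χ (chi.comp (MonoidHom.fst C3 C3 * MonoidHom.snd C3 C3))
    rw [sum_v] at hm0 hm1 hm2
    simp only [MonoidHom.one_apply, mul_one, v0, v1, v2, v3, v4, v5, v6, v7, v8] at hm0
    simp only [MonoidHom.comp_apply, v0, v1, v2, v3, v4, v5, v6, v7, v8] at hm1 hm2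
    simp [Prod.inv_mk, hi1.1, hi1.2.1, hi1.2.2, hγ2] at hm1 hm2
    refine ⟨m0 - m1, m1 - m2, m0, ?_, ?_, by linear_combination hm0⟩
    · push_cast
      linear_combination (1 / 9 : ℂ) * (hm1 - hm0) - (1 / 9 : ℂ) * (u χ + 2 * w χ) * hω
    · push_cast
      linear_combination (1 / 9 : ℂ) * (hm2 - hm1) + (1 / 9 : ℂ) * (u χ + 2 * w χ) * hω
        - (1 / 9 : ℂ) * (2 * u χ + w χ) * hω - (1 / 9 : ℂ) * (w χ * chi γ + w χ) * hω3
  choose a b m ha hb hm using hab
  let d : IrrCharacter K → ℤ := fun χ => (charDegree χ.1 : ℤ)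
  have hd : ∀ χ, 0 < d χ := fun χ => Int.natCast_pos.2 (Char.charDegree_pos χ)
  have hdC : ∀ χ, (d χ : ℂ) = χ.1 1 := fun χ => by simp [d, Char.charDegree_cast]
  have hu : ∀ χ, u χ = (a χ : ℂ) + 2 * (b χ : ℂ) := fun χ => by rw [ha, hb]; ring
  have hw : ∀ χ, w χ = (a χ : ℂ) - (b χ : ℂ) := fun χ => by rw [ha, hb]; ring
  have hcong : ∀ χ, 9 ∣ d χ + 8 * a χ + 4 * b χ := fun χ => ⟨m χ, by
    have : (d χ : ℂ) + 8 * (a χ : ℂ) + 4 * (b χ : ℂ) = 9 * (m χ : ℂ) := by
      rw [← hm, hdC, hu, hw]; ring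
    exact_mod_cast this⟩
  have hsep : ¬ IsConj (ι (γ, 1)) (ι (γ, γ)) := fun hc' => by
    obtain ⟨k, hk⟩ := hconjN _ _ hc' hne1
    exact hnf k hk
  have hcv : ∀ v, (v = (γ, 1) ∨ v = (γ, γ)) → ∀ χ : IrrCharacter K,
      (starRingEnd ℂ) (χ.1 (ι v)) = χ.1 (ι v) := fun v hv χ => by
    rw [Char.IsCharacter.conj_apply (Char.irr_isCharacter χ),
      ← CharInt.char_eq_of_isConj (Char.irr_isCharacter χ) (hinvconj v hv)]
  have hne : ∀ v, v ≠ 1 → ι v ≠ 1 := fun v hv h1 => hv (hinj (h1.trans (map_one ι).symm))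
  have huu : ∑ χ, u χ * u χ = 9 := by
    have h1 := Char.sum_irr_mul_conj (ι (γ, 1)) (ι (γ, 1))
    simp only [hcv (γ, 1) (Or.inl rfl)] at h1
    rw [if_pos (IsConj.refl _), h.cent _ (hmem _) (hne _ hne1), h.card] at h1
    exact h1.trans Nat.cast_ofNat
  have hww : ∑ χ, w χ * w χ = 9 := by
    have h1 := Char.sum_irr_mul_conj (ι (γ, γ)) (ι (γ, γ))
    simp only [hcv (γ, γ) (Or.inr rfl)] at h1
    rw [if_pos (IsConj.refl _), h.cent _ (hmem _) (hne _ hne2), h.card] at h1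
    exact h1.trans Nat.cast_ofNat
  have huw : ∑ χ, u χ * w χ = 0 := by
    have h1 := Char.sum_irr_mul_conj (ι (γ, 1)) (ι (γ, γ))
    simp only [hcv (γ, γ) (Or.inr rfl)] at h1
    rwa [if_neg hsep] at h1
  have hdu : ∀ v, v ≠ 1 → ∑ χ : IrrCharacter K, χ.1 (ι v) * (d χ : ℂ) = 0 := fun v hv => by
    have h1 := Char.sum_irr_degree_mul (ι v)
    rw [if_neg (hne v hv)] at h1
    rw [← h1]
    exact Finset.sum_congr rfl fun χ _ => by rw [hdC, mul_comm]
  have hbb : ∑ χ, b χ * b χ = 2 := by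
    have h1 : ((∑ χ, b χ * b χ : ℤ) : ℂ) = 2 := by
      push_cast
      rw [Finset.sum_congr rfl fun χ _ => show (b χ : ℂ) * b χ =
        (1 / 9 : ℂ) * (u χ * u χ + w χ * w χ - 2 * (u χ * w χ)) by rw [hb]; ring,
        ← Finset.mul_sum, Finset.sum_sub_distrib, Finset.sum_add_distrib, ← Finset.mul_sum, huu, hww, huw]
      norm_num
    exact_mod_cast h1
  have hab' : ∑ χ, a χ * b χ = -1 := by
    have h1 : ((∑ χ, a χ * b χ : ℤ) : ℂ) = -1 := by
      push_cast
      rw [Finset.sum_congr rfl fun χ _ => show (a χ : ℂ) * b χ =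
        (1 / 9 : ℂ) * (u χ * u χ + u χ * w χ - 2 * (w χ * w χ)) by rw [ha, hb]; ring,
        ← Finset.mul_sum, Finset.sum_sub_distrib, Finset.sum_add_distrib, ← Finset.mul_sum, huu, hww, huw]
      norm_num
    exact_mod_cast h1
  have haa : ∑ χ, a χ * a χ = 5 := by
    have h1 : ((∑ χ, a χ * a χ : ℤ) : ℂ) = 5 := by
      push_cast
      rw [Finset.sum_congr rfl fun χ _ => show (a χ : ℂ) * a χ =
        (1 / 9 : ℂ) * (u χ * u χ + 4 * (u χ * w χ) + 4 * (w χ * w χ)) by rw [ha]; ring,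
        ← Finset.mul_sum, Finset.sum_add_distrib, Finset.sum_add_distrib, ← Finset.mul_sum,
        ← Finset.mul_sum, huu, hww, huw]
      norm_num
    exact_mod_cast h1
  have had : ∑ χ, a χ * d χ = 0 := by
    have h1 : ((∑ χ, a χ * d χ : ℤ) : ℂ) = 0 := by
      push_cast
      rw [Finset.sum_congr rfl fun χ _ => show (a χ : ℂ) * d χ =
        (1 / 3 : ℂ) * (χ.1 (ι (γ, 1)) * d χ + 2 * (χ.1 (ι (γ, γ)) * d χ)) by rw [ha]; ring,
        ← Finset.mul_sum, Finset.sum_add_distrib, ← Finset.mul_sum, hdu _ hne1, hdu _ hne2]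
      ring
    exact_mod_cast h1
  have hbd : ∑ χ, b χ * d χ = 0 := by
    have h1 : ((∑ χ, b χ * d χ : ℤ) : ℂ) = 0 := by
      push_cast
      rw [Finset.sum_congr rfl fun χ _ => show (b χ : ℂ) * d χ =
        (1 / 3 : ℂ) * (χ.1 (ι (γ, 1)) * d χ - χ.1 (ι (γ, γ)) * d χ) by rw [hb]; ring,
        ← Finset.mul_sum, Finset.sum_sub_distrib, hdu _ hne1, hdu _ hne2]
      ring
    exact_mod_cast h1
  have htriv : d (Char.trivialChar K) = 1 ∧ a (Char.trivialChar K) = 1 ∧ b (Char.trivialChar K) = 0 := by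
    have h0 : (d (Char.trivialChar K) : ℂ) = 1 := (hdC _).trans rfl
    have h1 : (a (Char.trivialChar K) : ℂ) = 1 := by
      rw [ha]; show ((1 : ℂ) + 2 * 1) / 3 = 1; norm_num
    have h2 : (b (Char.trivialChar K) : ℂ) = 0 := by
      rw [hb]; show ((1 : ℂ) - 1) / 3 = 0; norm_num
    exact ⟨by exact_mod_cast h0, by exact_mod_cast h1, by exact_mod_cast h2⟩
  -- the count of pairs
  have hfix : ∀ p q : K, p * ι (γ, 1) * p⁻¹ * (q * ι (γ, 1) * q⁻¹) = ι (γ, γ) → p ∈ N ∧ q ∈ N := by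
    intro p q hpq
    have hcube : ∀ r : K, r * ι (γ, 1) * r⁻¹ * (r * ι (γ, 1) * r⁻¹) * (r * ι (γ, 1) * r⁻¹) = 1 :=
      fun r => by
        calc _ = r * (ι (γ, 1) * ι (γ, 1) * ι (γ, 1)) * r⁻¹ := by group
          _ = 1 := by rw [h.cube (hmem _)]; group
    have hyq : (p * ι (γ, 1) * p⁻¹)⁻¹ * ι (γ, γ) = q * ι (γ, 1) * q⁻¹ := by rw [← hpq]; group
    rcases h.triangle (hmem (γ, γ)) (hne _ hne2) (hcube p) (by rw [hyq]; exact hcube q) with
      hxS | ⟨hc', -⟩
    · exact ⟨h.ctl (hmem _) (hne _ hne1) hxS,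
        h.ctl (hmem _) (hne _ hne1) (hyq ▸ mul_mem (inv_mem hxS) (hmem _))⟩
    · refine absurd ?_ hsep
      exact ((hinvconj _ (Or.inr rfl)).trans hc' |>.trans (isConj_iff.2 ⟨p⁻¹, by group⟩)).symm
  have hcount := Char.card_conj_mul_conj_eq (ι (γ, 1)) (ι (γ, 1)) (ι (γ, γ))
  have h162 : Nat.card {p : K × K //
      p.1 * ι (γ, 1) * p.1⁻¹ * (p.2 * ι (γ, 1) * p.2⁻¹) = ι (γ, γ)} = 162 := by
    rw [← count_pairs, ← Nat.card_eq_finsetCard]
    have hiff : ∀ g g' : F36,
        (ψ g * ι (γ, 1) * (ψ g)⁻¹ * (ψ g' * ι (γ, 1) * (ψ g')⁻¹) = ι (γ, γ)) ↔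
          g * tr (γ, 1) * g⁻¹ * (g' * tr (γ, 1) * g'⁻¹) = tr (γ, γ) := fun g g' => by
      rw [← hψtr, ← hψtr, ← map_inv, ← map_inv, ← map_mul, ← map_mul, ← map_mul, ← map_mul, ← map_mul]
      exact hψinj.eq_iff
    refine (Nat.card_eq_of_bijective
      (fun g : {g // g ∈ Finset.univ.filter fun p : F36 × F36 =>
          p.1 * tr (γ, 1) * p.1⁻¹ * (p.2 * tr (γ, 1) * p.2⁻¹) = tr (γ, γ)} =>
        (⟨(ψ g.1.1, ψ g.1.2), (hiff _ _).2 (Finset.mem_filter.1 g.2).2⟩ : {p : K × K //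
          p.1 * ι (γ, 1) * p.1⁻¹ * (p.2 * ι (γ, 1) * p.2⁻¹) = ι (γ, γ)})) ⟨?_, ?_⟩).symm
    · intro g g' hgg'
      have h' := congrArg Subtype.val hgg'
      exact Subtype.ext (Prod.ext (hψinj (congrArg Prod.fst h')) (hψinj (congrArg Prod.snd h')))
    · rintro ⟨⟨p, q⟩, hpq⟩
      obtain ⟨g, rfl⟩ := hN' p (hfix p q hpq).1
      obtain ⟨g', rfl⟩ := hN' q (hfix _ q hpq).2
      exact ⟨⟨(g, g'), Finset.mem_filter.2 ⟨Finset.mem_univ _, (hiff _ _).1 hpq⟩⟩, rfl⟩
  rw [h162] at hcount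
  -- the index
  set k := N.index with hk
  have hKk : Nat.card K = 36 * k := by rw [← N.card_mul_index, hN]
  have hk9 : k % 9 = 1 := by
    have h1 := card_modEq_one_of_free (A := (S : Subgroup K)) (X := K ⧸ N) (QuotientGroup.mk 1)
      (fun a => by
        show QuotientGroup.mk ((a : K) * 1) = _
        rw [QuotientGroup.eq, mul_one, mul_one]
        exact inv_mem (Subgroup.le_normalizer a.2))
      (fun x hx a hax => by
        induction x using QuotientGroup.induction_on with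
        | H g =>
          by_contra ha1
          have ha' : (a : K) ≠ 1 := fun h1 => ha1 (Subtype.ext h1)
          have hm' : g⁻¹ * (a : K) * g ∈ N := by
            have h2 : QuotientGroup.mk ((a : K) * g) = (QuotientGroup.mk g : K ⧸ N) := hax
            rw [QuotientGroup.eq] at h2
            have := inv_mem h2
            rwa [mul_inv_rev, inv_inv, ← mul_assoc] at this
          have hmS : g⁻¹ * (a : K) * g ∈ (S : Subgroup K) := by
            have h4 := pow_four_mem h hN hm'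
            have h3 : (g⁻¹ * (a : K) * g) ^ 3 = 1 := by
              rw [show g⁻¹ * (a : K) * g = g⁻¹ * (a : K) * (g⁻¹)⁻¹ by rw [inv_inv], conj_pow,
                h.exp _ a.2, mul_one, mul_inv_cancel]
            rwa [pow_succ, h3, one_mul] at h4
          refine hx (QuotientGroup.eq.2 ?_)
          rw [mul_one]
          exact h.ctl a.2 ha' (by rwa [inv_inv]))
    rw [h.card] at h1
    have : k ≡ 1 [MOD 9] := by rwa [hk, Subgroup.index_eq_card]
    exact this
  have hcubic : (36 * k : ℚ) *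
      ∑ χ, (((a χ + 2 * b χ) * (a χ + 2 * b χ) * (a χ - b χ) : ℤ) : ℚ) / (d χ : ℚ) = 162 := by
    have h2 : ∀ χ : IrrCharacter K,
        χ.1 (ι (γ, 1)) * χ.1 (ι (γ, 1)) * χ.1 (ι (γ, γ))⁻¹ / χ.1 1 =
          (((((a χ + 2 * b χ) * (a χ + 2 * b χ) * (a χ - b χ) : ℤ) : ℚ) / (d χ : ℚ) : ℚ) : ℂ) := by
      intro χ
      rw [← CharInt.char_eq_of_isConj (Char.irr_isCharacter χ) (hinvconj _ (Or.inr rfl)), ← hdC]
      show u χ * u χ * w χ / _ = _
      rw [hu, hw]
      push_cast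
      ring
    simp only [h2] at hcount
    rw [hKk] at hcount
    push_cast at hcount
    have h3 : ((((36 * k : ℚ) * ∑ χ,
        (((a χ + 2 * b χ) * (a χ + 2 * b χ) * (a χ - b χ) : ℤ) : ℚ) / (d χ : ℚ)) : ℚ) : ℂ) =
        ((162 : ℚ) : ℂ) := by
      push_cast
      exact hcount.symm
    exact_mod_cast h3
  -- linear characters
  have hlam : (∃ lam : K →* ℂ, lam ≠ 1) → (S : Subgroup K).Normal := by
    rintro ⟨lam, hlam⟩
    have hne0 : ∀ g, lam g ≠ 0 := fun g h0 => by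
      have h1 := Char.normSq_linear lam g
      rw [h0, zero_mul] at h1
      exact zero_ne_one h1
    have hkill : ∀ s ∈ (S : Subgroup K), lam s = 1 := by
      intro s hs
      have h1 : lam s⁻¹ = lam s := by
        rw [← hcinv s hs]
        conv_lhs => arg 2; arg 2; rw [← hc22]
        rw [map_mul, map_mul, mul_comm (lam (c * c)), mul_assoc, ← map_mul, mul_inv_cancel, map_one,
          mul_one]
      have h2 : lam s * lam s = 1 := by
        conv_lhs => arg 1; rw [← h1]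
        rw [← map_mul, inv_mul_cancel, map_one]
      have h3 : lam s * lam s * lam s = 1 := by rw [← map_mul, ← map_mul, h.cube hs, map_one]
      rwa [h2, one_mul] at h3
    have hSL : (S : Subgroup K) ≤ lam.ker := fun s hs => hkill s hs
    have hsup : N ⊔ lam.ker = ⊤ := Sylow.normalizer_sup_eq_top' S hSL
    refine normal_of_subtype hSL (normal_of_dvd (h.subtype hSL) ?_)
    rw [Sylow.coe_subtype, ← Subgroup.subgroupOf_normalizer_eq hSL]
    have hcardL : Nat.card (N.subgroupOf lam.ker) = Nat.card (lam.ker ⊓ N : Subgroup K) := by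
      rw [← Subgroup.card_map_of_injective lam.ker.subtype_injective, Subgroup.subgroupOf_map_subtype,
        inf_comm]
    have hlt : (lam.ker ⊓ N : Subgroup K) ≠ N := fun heq => by
      have hle : N ≤ lam.ker := heq ▸ inf_le_left
      rw [sup_eq_right.2 hle] at hsup
      exact hlam (MonoidHom.ext fun g =>
        MonoidHom.mem_ker.1 (show g ∈ lam.ker from hsup ▸ Subgroup.mem_top g))
    rw [hcardL]
    obtain ⟨r, hr⟩ : 9 ∣ Nat.card (lam.ker ⊓ N : Subgroup K) := by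
      rw [← h.card]; exact Subgroup.card_dvd_of_le (le_inf hSL Subgroup.le_normalizer)
    have hd36 : 9 * r ∣ 9 * 4 := by
      rw [← hr]
      exact (Subgroup.card_dvd_of_le inf_le_right).trans (dvd_of_eq hN)
    have hr4 : r ∣ 2 ^ 2 := (Nat.mul_dvd_mul_iff_left (by norm_num : 0 < 9)).1 hd36
    obtain ⟨j, hj, rfl⟩ := (Nat.dvd_prime_pow Nat.prime_two).1 hr4
    rw [hr]
    interval_cases j
    · norm_num
    · norm_num
    · refine absurd (Subgroup.eq_of_le_of_card_ge inf_le_right ?_) hlt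
      rw [hN, hr]; norm_num
  rcases four_core hd htriv.1 htriv.2.1 htriv.2.2 hbb hab' haa had hbd hcong k hk9 hcubic with
    h1 | h10 | ⟨χ, hχ0, hd1, -, -⟩
  · left
    have htop : N = ⊤ := Subgroup.index_eq_one.1 h1
    rw [← Subgroup.normalizer_eq_top_iff, ← hNdef, htop]
  · by_cases hl : ∃ lam : K →* ℂ, lam ≠ 1
    · exact Or.inl (hlam hl)
    right
    have hcard : Nat.card K = 360 := by rw [hKk, h10]
    refine ⟨hcard, ?_⟩
    haveI : Nontrivial K := Finite.one_lt_card_iff_nontrivial.1 (by omega)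
    push Not at hl
    have hperf : commutator K = ⊤ := by
      rw [← Subgroup.index_eq_one, ← Char.card_monoidHom_complex, Nat.card_eq_one_iff_unique]
      exact ⟨⟨fun p q => (hl p).trans (hl q).symm⟩, ⟨1⟩⟩
    refine ⟨fun M hM => ?_⟩
    by_contra hMne
    push Not at hMne
    haveI := hM
    have h3 : 3 ∣ Nat.card M := by
      by_contra h3
      exact hMne.1 (eq_bot_of_not_dvd h M h3)
    obtain ⟨z, hz⟩ := exists_prime_orderOf_dvd_card' 3 h3
    have hz3 : orderOf (z : K) = 3 := by rw [Subgroup.orderOf_coe]; exact hz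
    obtain ⟨P, hP⟩ := (show IsPGroup 3 (Subgroup.zpowers (z : K)) from
      IsPGroup.of_card (n := 1) (by rw [Nat.card_zpowers, hz3, pow_one])).exists_le_sylow
    obtain ⟨g, hg⟩ := MulAction.exists_smul_eq K P S
    have hs : g * (z : K) * g⁻¹ ∈ (S : Subgroup K) := by
      rw [← hg, Sylow.coe_subgroup_smul]
      exact ⟨z, hP (Subgroup.mem_zpowers _), rfl⟩
    have hsM : g * (z : K) * g⁻¹ ∈ M := hM.conj_mem _ z.2 g
    obtain ⟨v, hv⟩ : g * (z : K) * g⁻¹ ∈ ι.range := hrange ▸ hs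
    have hv1 : v ≠ 1 := fun h1 => by
      rw [h1, map_one] at hv
      rw [conj_eq_one_iff.1 hv.symm, orderOf_one] at hz3
      norm_num at hz3
    have hvM : ι v ∈ M := hv ▸ hsM
    have hrM : ι (rotPow 1 v) ∈ M := by
      rw [show rotPow 1 v = rot v from rfl, ← hrot]
      exact hM.conj_mem _ hvM c
    have hSM : (S : Subgroup K) ≤ M := by
      rw [← hrange]
      rintro - ⟨v', rfl⟩
      obtain ⟨i, j, rfl⟩ := span_rot v hv1 v'
      rw [map_mul, map_pow, map_pow]
      exact mul_mem (pow_mem hvM _) (pow_mem hrM _)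
    have hsup : N ⊔ M = ⊤ := Sylow.normalizer_sup_eq_top' S hSM
    have hgen : Subgroup.zpowers c ⊔ M = ⊤ := by
      refine top_le_iff.1 (hsup ▸ sup_le (fun n hn => ?_) le_sup_right)
      obtain ⟨e, rfl⟩ := hN' n hn
      rw [hψ]
      exact mul_mem (Subgroup.mem_sup_right (hSM (hmem _)))
        (Subgroup.mem_sup_left (Subgroup.npow_mem_zpowers c _))
    have hcM : commutator K ≤ M := by
      rw [commutator_def, Subgroup.commutator_le]
      intro p _ q _
      rw [← QuotientGroup.eq_one_iff]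
      have hq : ∀ p : K, (QuotientGroup.mk p : K ⧸ M) ∈
          Subgroup.zpowers (QuotientGroup.mk c : K ⧸ M) := by
        intro p
        have hmap : (Subgroup.zpowers c ⊔ M).map (QuotientGroup.mk' M) =
            Subgroup.zpowers (QuotientGroup.mk c : K ⧸ M) := by
          rw [Subgroup.map_sup, MonoidHom.map_zpowers, QuotientGroup.map_mk'_self, sup_bot_eq]
          rfl
        rw [← hmap, hgen]
        exact ⟨p, Subgroup.mem_top p, rfl⟩
      obtain ⟨i, hi⟩ := Subgroup.mem_zpowers_iff.1 (hq p)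
      obtain ⟨j, hj⟩ := Subgroup.mem_zpowers_iff.1 (hq q)
      show ((⁅p, q⁆ : K) : K ⧸ M) = 1
      rw [show ((⁅p, q⁆ : K) : K ⧸ M) = ⁅(p : K ⧸ M), (q : K ⧸ M)⁆ from
        map_commutatorElement (QuotientGroup.mk' M) p q, commutatorElement_eq_one_iff_mul_comm,
        ← hi, ← hj, ← zpow_add, ← zpow_add, add_comm]
    exact hMne.2 (top_le_iff.1 (hperf ▸ hcM))
  · obtain ⟨lam, hl⟩ := Char.IsCharacter.exists_monoidHom (Char.irr_isCharacter χ)
      (by rw [← hdC, hd1, Int.cast_one])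
    exact Or.inl (hlam ⟨lam, fun h1 => hχ0 (Subtype.ext (by rw [← hl, h1]; rfl))⟩)

end Cfsg.Agent.Exceptional.SelfNine
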