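import Mathlib.GroupTheory.SpecificGroups.Alternating

/-!
# Three-cycles on six points
-/

set_option autoImplicit false
set_option synthInstance.maxSize 4096
set_option synthInstance.maxHeartbeats 400000

namespace Cfsg.Agent.Exceptional.SelfNine

open Equiv

/-- The three-cycle `(a b c)`. -/
def cyc {α : Type*} [DecidableEq α] (a b c : α) : Perm α := swap a b * swap b c

/-- The generators `(0 1 k)`. -/
def t₀ (i : Fin 4) : Perm (Fin 6) := cyc 0 1 (Fin.natAdd 2 i)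

/-- The nine three-cycles whose product with `(0 1 2)` is an involution. -/
def nine (p : Fin 3 × Fin 3) : Perm (Fin 6) :=
  cyc (![0, 1, 2] p.1) (![1, 2, 0] p.1) (![3, 4, 5] p.2)

/-- Eighteen candidates for the conjugating permutation. -/
def cand (s : Fin 3) (p : Fin 6) : Perm (Fin 6) :=
  cyc 0 1 2 ^ s.val * ![1, swap 3 4, swap 3 5, swap 4 5, cyc 3 4 5, cyc 3 5 4] p

theorem nine_of_invol : ∀ a b c : Fin 6, a ≠ b → b ≠ c → a ≠ c →
    cyc 0 1 2 * cyc a b c ≠ 1 →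
    cyc 0 1 2 * cyc a b c * (cyc 0 1 2 * cyc a b c) = 1 → ∃ p, cyc a b c = nine p := by
  decide +kernel

theorem nine_triples : ∀ p q r, nine p ≠ nine q → nine p ≠ nine r → nine q ≠ nine r →
    nine p * nine q * (nine p * nine q) = 1 → nine p * nine r * (nine p * nine r) = 1 →
    nine q * nine r * (nine q * nine r) = 1 →
    ∃ s j, cand s j * cyc 0 1 2 = cyc 0 1 2 * cand s j ∧ cand s j * t₀ 1 = nine p * cand s j ∧
      cand s j * t₀ 2 = nine q * cand s j ∧ cand s j * t₀ 3 = nine r * cand s j := by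
  decide +kernel

theorem t₀_rel : t₀ 0 = cyc 0 1 2 ∧
    (∀ i j, i ≠ j → t₀ i ≠ t₀ j ∧ t₀ i * t₀ j ≠ 1 ∧ t₀ i * t₀ j * (t₀ i * t₀ j) = 1) ∧
    (∀ i, Perm.sign (t₀ i) = 1) := by
  decide +kernel

theorem commute_t₀ : ∀ π : Perm (Fin 6), (∀ i, π * t₀ i = t₀ i * π) → π = 1 := by
  decide +kernel

theorem gen_cases : ∀ a b c : Fin 6, a ≠ b → b ≠ c → a ≠ c → ∃ i j k : Fin 4,
    cyc a b c = t₀ i ∨ cyc a b c = t₀ i * t₀ i ∨ cyc a b c = t₀ j * (t₀ i * t₀ i) ∨
      cyc a b c = t₀ j * t₀ j * t₀ i ∨ cyc a b c = t₀ k * (t₀ j * t₀ j * t₀ i) * (t₀ k)⁻¹ := by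
  decide +kernel

end Cfsg.Agent.Exceptional.SelfNine
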