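import Mathlib.GroupTheory.SpecificGroups.Alternating
import Mathlib.GroupTheory.Perm.Cycle.Type
import Cfsg.Agent.Lib.Exceptional.SelfNine.SixData

/-!
# Extensions of the alternating group of degree 6 preserving the class of three-cycles
-/

set_option autoImplicit false

namespace Cfsg.Agent.Exceptional.SelfNine

open Equiv

theorem conj_cyc (y : Perm (Fin 6)) (a b c : Fin 6) :
    y * cyc a b c * y⁻¹ = cyc (y a) (y b) (y c) := by
  rw [cyc, cyc, Equiv.swap_apply_apply, Equiv.swap_apply_apply]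
  group

theorem isThreeCycle_cyc {a b c : Fin 6} (hab : a ≠ b) (hbc : b ≠ c) (hac : a ≠ c) :
    (cyc a b c).IsThreeCycle := by
  rw [cyc, swap_comm a b]
  exact Perm.isThreeCycle_swap_mul_swap_same hab.symm hbc hac

/-- The four generators as even permutations. -/
def gen (i : Fin 4) : alternatingGroup (Fin 6) := ⟨t₀ i, Perm.mem_alternatingGroup.2 (t₀_rel.2.2 i)⟩

theorem isThreeCycle_gen (i : Fin 4) : ((gen i : alternatingGroup (Fin 6)) : Perm (Fin 6)).IsThreeCycle := by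
  show (cyc 0 1 (Fin.natAdd 2 i)).IsThreeCycle
  have : ∀ i : Fin 4, (0 : Fin 6) ≠ 1 ∧ (1 : Fin 6) ≠ Fin.natAdd 2 i ∧ (0 : Fin 6) ≠ Fin.natAdd 2 i := by
    decide
  exact isThreeCycle_cyc (this i).1 (this i).2.1 (this i).2.2

theorem exists_cyc {z : Perm (Fin 6)} (hz : z.IsThreeCycle) :
    ∃ a b c : Fin 6, a ≠ b ∧ b ≠ c ∧ a ≠ c ∧ z = cyc a b c := by
  have hc : IsConj (cyc (0 : Fin 6) 1 2) z := Perm.isConj_iff_cycleType_eq.2 (by
    rw [(isThreeCycle_cyc (by decide) (by decide) (by decide) :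
      (cyc (0 : Fin 6) 1 2).IsThreeCycle).cycleType, hz.cycleType])
  obtain ⟨y, hy⟩ := isConj_iff.1 hc
  exact ⟨y 0, y 1, y 2, fun h => absurd (y.injective h) (by decide),
    fun h => absurd (y.injective h) (by decide), fun h => absurd (y.injective h) (by decide),
    by rw [← hy, conj_cyc]⟩

theorem closure_gen : Subgroup.closure (Set.range gen) = ⊤ := by
  set H := Subgroup.closure (Set.range gen)
  have hg : ∀ i, gen i ∈ H := fun i => Subgroup.subset_closure ⟨i, rfl⟩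
  have h1 : Subgroup.closure {σ : Perm (Fin 6) | σ.IsThreeCycle} ≤
      H.map (alternatingGroup (Fin 6)).subtype := by
    rw [Subgroup.closure_le]
    intro z hz
    obtain ⟨a, b, c, hab, hbc, hac, rfl⟩ := exists_cyc hz
    obtain ⟨i, j, k, h | h | h | h | h⟩ := gen_cases a b c hab hbc hac
    · exact ⟨gen i, hg i, h.symm⟩
    · exact ⟨gen i * gen i, mul_mem (hg i) (hg i), h.symm⟩
    · exact ⟨gen j * (gen i * gen i), mul_mem (hg j) (mul_mem (hg i) (hg i)), h.symm⟩
    · exact ⟨gen j * gen j * gen i, mul_mem (mul_mem (hg j) (hg j)) (hg i), h.symm⟩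
    · exact ⟨gen k * (gen j * gen j * gen i) * (gen k)⁻¹,
        mul_mem (mul_mem (hg k) (mul_mem (mul_mem (hg j) (hg j)) (hg i))) (inv_mem (hg k)), h.symm⟩
  rw [Perm.closure_three_cycles_eq_alternating] at h1
  rw [eq_top_iff]
  intro x _
  obtain ⟨y, hy, hyx⟩ := h1 x.2
  rwa [← Subtype.ext (show (y : Perm (Fin 6)) = x from hyx)]

/-- An automorphism preserving the three-cycles is induced by a permutation. -/
theorem exists_perm (σ : alternatingGroup (Fin 6) →* alternatingGroup (Fin 6))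
    (hσ : Function.Injective σ)
    (hcl : ∀ z : alternatingGroup (Fin 6), (z : Perm (Fin 6)).IsThreeCycle →
      (σ z : Perm (Fin 6)).IsThreeCycle) :
    ∃ π : Perm (Fin 6), ∀ a : alternatingGroup (Fin 6), π * (a : Perm (Fin 6)) * π⁻¹ = (σ a : Perm (Fin 6)) := by
  obtain ⟨h00, hrel, -⟩ := t₀_rel
  obtain ⟨a, b, c, hab, hbc, hac, h0⟩ := exists_cyc (hcl (gen 0) (isThreeCycle_gen 0))
  obtain ⟨y, hy⟩ := isConj_iff.1 (Perm.isConj_iff_cycleType_eq.2
    (by rw [(isThreeCycle_cyc (by decide) (by decide) (by decide) :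
      (cyc (0 : Fin 6) 1 2).IsThreeCycle).cycleType, (isThreeCycle_cyc hab hbc hac).cycleType]) :
    IsConj (cyc (0 : Fin 6) 1 2) (cyc a b c))
  -- the images moved back by `y`
  let τ : Fin 4 → Perm (Fin 6) := fun i => y⁻¹ * (σ (gen i) : Perm (Fin 6)) * y
  have hτ0 : τ 0 = cyc 0 1 2 := by
    show y⁻¹ * (σ (gen 0) : Perm (Fin 6)) * y = _
    rw [h0, ← hy]; group
  have hinj : ∀ i j, τ i = τ j → t₀ i = t₀ j := fun i j h => by
    have h1 : (σ (gen i) : Perm (Fin 6)) = σ (gen j) := mul_left_cancel (mul_right_cancel h)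
    exact congrArg Subtype.val (hσ (Subtype.ext h1))
  have hmul : ∀ i j, τ i * τ j = y⁻¹ * (σ (gen i * gen j) : Perm (Fin 6)) * y := fun i j => by
    show y⁻¹ * _ * y * (y⁻¹ * _ * y) = _
    rw [map_mul, Subgroup.coe_mul]; group
  have hinv : ∀ i j, i ≠ j → τ i * τ j ≠ 1 ∧ τ i * τ j * (τ i * τ j) = 1 := by
    intro i j hij
    obtain ⟨-, hne, hsq⟩ := hrel i j hij
    rw [hmul]
    refine ⟨fun h => hne ?_, ?_⟩
    · have h1 : (σ (gen i * gen j) : Perm (Fin 6)) = 1 := by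
        calc (σ (gen i * gen j) : Perm (Fin 6)) = y * (y⁻¹ * (σ (gen i * gen j) : Perm (Fin 6)) * y) * y⁻¹ := by
              group
          _ = 1 := by rw [h]; group
      have h2 : gen i * gen j = 1 := hσ ((Subtype.ext h1).trans (map_one σ).symm)
      exact congrArg Subtype.val h2
    · have h2 : gen i * gen j * (gen i * gen j) = 1 := Subtype.ext hsq
      calc _ = y⁻¹ * (σ (gen i * gen j * (gen i * gen j)) : Perm (Fin 6)) * y := by
            rw [map_mul σ (gen i * gen j) (gen i * gen j), Subgroup.coe_mul]; group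
        _ = 1 := by rw [h2, map_one, Subgroup.coe_one]; group
  have hnine : ∀ i, i ≠ 0 → ∃ p, τ i = nine p := by
    intro i hi
    obtain ⟨a', b', c', h1, h2, h3, he⟩ := exists_cyc (hcl (gen i) (isThreeCycle_gen i))
    have hτi : τ i = cyc (y⁻¹ a') (y⁻¹ b') (y⁻¹ c') := by
      show y⁻¹ * (σ (gen i) : Perm (Fin 6)) * y = _
      rw [he]
      conv_lhs => rw [show y = (y⁻¹)⁻¹ from (inv_inv y).symm]
      rw [inv_inv, ← conj_cyc, inv_inv]
    obtain ⟨hne, hsq⟩ := hinv 0 i (Ne.symm hi)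
    rw [hτ0, hτi] at hne hsq
    rw [hτi]
    exact nine_of_invol _ _ _ (fun h => h1 (y⁻¹.injective h)) (fun h => h2 (y⁻¹.injective h))
      (fun h => h3 (y⁻¹.injective h)) hne hsq
  obtain ⟨p, hp⟩ := hnine 1 (by decide)
  obtain ⟨q, hq⟩ := hnine 2 (by decide)
  obtain ⟨r, hr⟩ := hnine 3 (by decide)
  have hdist : ∀ i j, i ≠ j → τ i ≠ τ j := fun i j hij h => (hrel i j hij).1 (hinj i j h)
  obtain ⟨s, j, g0, g1, g2, g3⟩ := nine_triples p q r
    (hp ▸ hq ▸ hdist 1 2 (by decide)) (hp ▸ hr ▸ hdist 1 3 (by decide))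
    (hq ▸ hr ▸ hdist 2 3 (by decide))
    (hp ▸ hq ▸ (hinv 1 2 (by decide)).2) (hp ▸ hr ▸ (hinv 1 3 (by decide)).2)
    (hq ▸ hr ▸ (hinv 2 3 (by decide)).2)
  have hgen : ∀ i, cand s j * t₀ i * (cand s j)⁻¹ = τ i := by
    intro i
    rw [mul_inv_eq_iff_eq_mul]
    fin_cases i
    · show cand s j * t₀ 0 = τ 0 * cand s j
      rw [h00, hτ0]; exact g0
    · exact g1.trans (by rw [← hp]; rfl)
    · exact g2.trans (by rw [← hq]; rfl)
    · exact g3.trans (by rw [← hr]; rfl)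
  refine ⟨y * cand s j, fun a => ?_⟩
  have heq : Set.EqOn ⇑((MulAut.conj (y * cand s j)).toMonoidHom.comp (alternatingGroup (Fin 6)).subtype)
      ⇑((alternatingGroup (Fin 6)).subtype.comp σ) (Set.range gen) := by
    rintro - ⟨i, rfl⟩
    show y * cand s j * t₀ i * (y * cand s j)⁻¹ = (σ (gen i) : Perm (Fin 6))
    calc y * cand s j * t₀ i * (y * cand s j)⁻¹ = y * (cand s j * t₀ i * (cand s j)⁻¹) * y⁻¹ := by group
      _ = y * (y⁻¹ * (σ (gen i) : Perm (Fin 6)) * y) * y⁻¹ := by rw [hgen]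
      _ = _ := by group
  exact DFunLike.congr_fun (MonoidHom.eq_of_eqOn_dense closure_gen heq) a

/-- A group with a centraliserless normal `A₆` of index two preserving the three-cycles is `S₆`. -/
theorem iso_perm_six {G : Type*} [Group G] [Finite G] (K : Subgroup G) [K.Normal]
    (ι : alternatingGroup (Fin 6) ≃* K) (hcard : Nat.card G = 720)
    (hcent : Subgroup.centralizer (K : Set G) = ⊥)
    (hcl : ∀ g : G, ∀ z : alternatingGroup (Fin 6), (z : Perm (Fin 6)).IsThreeCycle →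
      ∃ y : alternatingGroup (Fin 6), g * (ι z : G) * g⁻¹ = (ι (y * z * y⁻¹) : G)) :
    Nonempty (G ≃* Perm (Fin 6)) := by
  classical
  let σ : G → (alternatingGroup (Fin 6) →* alternatingGroup (Fin 6)) := fun g =>
    ι.symm.toMonoidHom.comp ((MulAut.conjNormal g).toMonoidHom.comp ι.toMonoidHom)
  have hσ : ∀ g a, (ι (σ g a) : G) = g * (ι a : G) * g⁻¹ := fun g a => by
    show ((ι (ι.symm (MulAut.conjNormal g (ι a))) : K) : G) = _
    rw [ι.apply_symm_apply, MulAut.conjNormal_apply]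
  have hinjι : ∀ a b, (ι a : G) = (ι b : G) → a = b := fun a b h => ι.injective (Subtype.ext h)
  have hex : ∀ g, ∃ π : Perm (Fin 6), ∀ a : alternatingGroup (Fin 6),
      π * (a : Perm (Fin 6)) * π⁻¹ = (σ g a : Perm (Fin 6)) := by
    intro g
    refine exists_perm (σ g) (fun a b h => ?_) fun z hz => ?_
    · refine hinjι a b ?_
      have h1 := congrArg (fun x => g⁻¹ * ((ι x : K) : G) * g) h
      simp only [hσ] at h1
      simpa [mul_assoc] using h1
    · obtain ⟨y, hy⟩ := hcl g z hz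
      rw [hinjι (σ g z) _ ((hσ g z).trans hy), Perm.IsThreeCycle, Subgroup.coe_mul, Subgroup.coe_mul,
        Subgroup.coe_inv, Perm.cycleType_conj]
      exact hz
  choose π hπ using hex
  have huniq : ∀ ρ ρ' : Perm (Fin 6), (∀ a : alternatingGroup (Fin 6),
      ρ * (a : Perm (Fin 6)) * ρ⁻¹ = ρ' * (a : Perm (Fin 6)) * ρ'⁻¹) → ρ = ρ' := by
    intro ρ ρ' h
    have h1 : ρ'⁻¹ * ρ = 1 := commute_t₀ _ fun i => by
      have h2 := h (gen i)
      calc ρ'⁻¹ * ρ * t₀ i = ρ'⁻¹ * (ρ * t₀ i * ρ⁻¹) * ρ := by group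
        _ = ρ'⁻¹ * (ρ' * t₀ i * ρ'⁻¹) * ρ := by rw [show ρ * t₀ i * ρ⁻¹ = ρ' * t₀ i * ρ'⁻¹ from h2]
        _ = t₀ i * (ρ'⁻¹ * ρ) := by group
    exact (inv_mul_eq_one.1 h1).symm
  let Φ : G →* Perm (Fin 6) := MonoidHom.mk' π fun g h => huniq _ _ fun a => by
    have hcomp : σ (g * h) a = σ g (σ h a) := hinjι _ _ (by rw [hσ, hσ, hσ]; group)
    calc π (g * h) * (a : Perm (Fin 6)) * (π (g * h))⁻¹ = (σ g (σ h a) : Perm (Fin 6)) := by
          rw [hπ, hcomp]
      _ = π g * (π h * (a : Perm (Fin 6)) * (π h)⁻¹) * (π g)⁻¹ := by rw [hπ h, hπ g]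
      _ = π g * π h * (a : Perm (Fin 6)) * (π g * π h)⁻¹ := by group
  have hΦ : Function.Injective Φ := by
    rw [injective_iff_map_eq_one]
    intro g hg
    rw [← Subgroup.mem_bot, ← hcent, Subgroup.mem_centralizer_iff]
    intro k hk
    have hid : σ g (ι.symm ⟨k, hk⟩) = ι.symm ⟨k, hk⟩ := Subtype.ext (by
      rw [← hπ, show π g = 1 from hg]; group)
    have h1 := hσ g (ι.symm ⟨k, hk⟩)
    rw [hid, ι.apply_symm_apply] at h1
    calc k * g = g * k * g⁻¹ * g := by rw [← h1]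
      _ = g * k := by group
  refine ⟨MulEquiv.ofBijective Φ ((Nat.bijective_iff_injective_and_card _).2 ⟨hΦ, ?_⟩)⟩
  rw [hcard, Nat.card_perm, Nat.card_eq_fintype_card, Fintype.card_fin]
  rfl

end Cfsg.Agent.Exceptional.SelfNine
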