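import Cfsg.Agent.Lib.Exceptional.SelfNine.Coord

/-!
# A normaliser of order at most 18

When the normaliser of the self-centralising Sylow subgroup of order 9 has index at most two over
it, the Sylow subgroup is normal.
-/

set_option autoImplicit false

namespace Cfsg.Agent.Exceptional.SelfNine

open Cfsg
open ThreeByS3 (C3 γ)

/-- The four lines. -/
def line : Fin 4 → V := ![(γ, 1), (1, γ), (γ, γ), (γ, γ * γ)]

/-- A functional vanishing on each line. -/
def func : Fin 4 → (V →* C3) :=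
  ![MonoidHom.snd C3 C3, MonoidHom.fst C3 C3, MonoidHom.fst C3 C3 / MonoidHom.snd C3 C3,
    MonoidHom.fst C3 C3 * MonoidHom.snd C3 C3]

theorem line_facts : (∀ i j, i ≠ j → line i ≠ line j ∧ line i ≠ (line j)⁻¹) ∧
    (∀ i, line i ≠ 1) ∧
    line 1 ≠ line 0 * line 0 ∧ line 1 ≠ line 0 * (line 0)⁻¹ ∧
    line 1 ≠ (line 0)⁻¹ * line 0 ∧ line 1 ≠ (line 0)⁻¹ * (line 0)⁻¹ := by
  decide +kernel

theorem line_values : ((γ, 1) : V) = line 0 ∧ ((γ * γ, 1) : V) = (line 0)⁻¹ ∧
    ((1, γ) : V) = line 1 ∧ ((1, γ * γ) : V) = (line 1)⁻¹ ∧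
    ((γ, γ) : V) = line 2 ∧ ((γ * γ, γ * γ) : V) = (line 2)⁻¹ ∧
    ((γ, γ * γ) : V) = line 3 ∧ ((γ * γ, γ) : V) = (line 3)⁻¹ ∧ ((1, 1) : V) = 1 := by
  decide +kernel

/-- The arithmetic of four vectors of norm three meeting pairwise in one further entry. -/
theorem two_core {ι : Type*} [Fintype ι] [DecidableEq ι] {i₀ : ι} {d : ι → ℤ} (hd : ∀ i, 0 < d i)
    (hd0 : d i₀ = 1) (W : Fin 4 → ι → ℤ) (hW0 : ∀ k, W k i₀ = 1)
    (hWW : ∀ k l, W k ⬝ᵥ W l = if k = l then 3 else 2) (hWd : ∀ k, W k ⬝ᵥ d = 0)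
    (hcubic : ∑ χ, (((∑ k, W k χ) - 3 * W 0 χ : ℤ) : ℚ) * (((∑ k, W k χ) - 3 * W 0 χ : ℤ) : ℚ) *
      (((∑ k, W k χ) - 3 * W 1 χ : ℤ) : ℚ) / (d χ : ℚ) = 0) :
    ∃ i, i ≠ i₀ ∧ d i = 1 ∧ ∀ l, (∑ k, W k i) - 3 * W l i = 1 := by
  choose P N hP0 hN0 hPN hWP hWN hdN hz using fun k =>
    NormThree.exists_two_entries (hW0 k) (by simpa using hWW k k) hd hd0 (hWd k)
  have hval : ∀ k i, i ≠ i₀ → W k i = if i = P k then 1 else if i = N k then -1 else 0 := by
    intro k i hi
    split_ifs with h1 h2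
    · rw [h1, hWP]
    · rw [h2, hWN]
    · exact hz k i hi h1 h2
  have hpair : ∀ k l, k ≠ l → (P k = P l ∧ N k ≠ N l) ∨ (N k = N l ∧ P k ≠ P l) := by
    intro k l hkl
    have h1 : W k ⬝ᵥ W l = W l i₀ + W l (P k) - W l (N k) :=
      NormThree.sum_three (R := ℤ) (hW0 k) (hP0 k) (hN0 k) (hPN k) (hWP k) (hWN k) (hz k) (W l)
    rw [hWW, if_neg hkl, hW0, hval l (P k) (hP0 k), hval l (N k) (hN0 k)] at h1
    split_ifs at h1 with a1 a2 a3 a4 a5 <;> first
      | omega
      | exact Or.inl ⟨by assumption, by assumption⟩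
      | exact Or.inr ⟨by assumption, by assumption⟩
  by_cases hshare : P 0 = P 1
  · -- the positive entry is shared
    have hP : ∀ k, P k = P 0 := by
      intro k
      rcases eq_or_ne k 0 with rfl | h0
      · rfl
      rcases eq_or_ne k 1 with rfl | h1
      · exact hshare.symm
      rcases hpair k 0 h0 with h | ⟨hN0', hP0'⟩
      · exact h.1
      rcases hpair k 1 h1 with h | ⟨hN1', -⟩
      · exact h.1.trans hshare.symm
      exfalso
      rcases hpair 0 1 (by decide) with h | h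
      · exact h.2 (hN0'.symm.trans hN1')
      · exact h.2 hshare
    have hNinj : Function.Injective N := fun k l hkl => by
      by_contra hne
      rcases hpair k l hne with h | h
      · exact h.2 hkl
      · exact h.2 ((hP k).trans (hP l).symm)
    set e := d (P 0) with he
    have hdN' : ∀ k, d (N k) = e + 1 := fun k => by rw [hdN, hP]
    have hWkN : ∀ k l, W k (N l) = if k = l then -1 else 0 := by
      intro k l
      rw [hval k (N l) (hN0 l), if_neg (by rw [hP k, ← hP l]; exact (hPN l).symm)]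
      exact if_congr ⟨fun h => (hNinj h).symm, fun h => by rw [h]⟩ rfl rfl
    have hsumP : ∑ k, W k (P 0) = 4 := by
      rw [Finset.sum_congr rfl fun k _ => show W k (P 0) = 1 by rw [← hP k]; exact hWP k]; rfl
    refine ⟨P 0, hP0 0, ?_, fun l => by rw [hsumP, show W l (P 0) = 1 by rw [← hP l]; exact hWP l]; rfl⟩
    have hzero : ∀ i ∈ (Finset.univ : Finset ι), i ∉ insert i₀ (insert (P 0) (Finset.univ.image N)) →
        (((∑ k, W k i) - 3 * W 0 i : ℤ) : ℚ) * (((∑ k, W k i) - 3 * W 0 i : ℤ) : ℚ) *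
          (((∑ k, W k i) - 3 * W 1 i : ℤ) : ℚ) / (d i : ℚ) = 0 := by
      intro i _ hi
      simp only [Finset.mem_insert, Finset.mem_image, Finset.mem_univ, true_and, not_or, not_exists] at hi
      have hall : ∀ k, W k i = 0 := fun k =>
        hz k i hi.1 (by rw [hP k]; exact hi.2.1) (fun h => hi.2.2 k h.symm)
      simp [hall]
    rw [← Finset.sum_subset (Finset.subset_univ _) hzero,
      Finset.sum_insert (by simp [Ne.symm (hP0 0), fun k => hN0 k]),
      Finset.sum_insert (by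
        simp only [Finset.mem_image, Finset.mem_univ, true_and, not_exists]
        exact fun k h => hPN k (by rw [hP k]; exact h.symm)),
      Finset.sum_image hNinj.injOn] at hcubic
    simp only [hW0, hd0, hsumP, show W 0 (P 0) = 1 from hWP 0,
      show W 1 (P 0) = 1 by rw [hshare]; exact hWP 1, hWkN, hdN', Fin.sum_univ_four, ← he] at hcubic
    norm_num [Fin.ext_iff] at hcubic
    have he0 : (0 : ℚ) < (e : ℚ) := Int.cast_pos.2 (hd _)
    field_simp at hcubic
    have : ((e : ℚ) - 1) ^ 2 = 0 := by linear_combination hcubic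
    exact_mod_cast sub_eq_zero.1 (pow_eq_zero_iff two_ne_zero |>.1 this)
  · -- the negative entry is shared
    have hN : ∀ k, N k = N 0 := by
      intro k
      have h01 : N 0 = N 1 := ((hpair 0 1 (by decide)).resolve_left fun h => hshare h.1).1
      rcases eq_or_ne k 0 with rfl | h0
      · rfl
      rcases eq_or_ne k 1 with rfl | h1
      · exact h01.symm
      rcases hpair k 0 h0 with h | h
      · rcases hpair k 1 h1 with h' | h'
        · exact absurd (h.1.symm.trans h'.1) hshare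
        · exact h'.1.trans h01.symm
      · exact h.1
    have hPinj : Function.Injective P := fun k l hkl => by
      by_contra hne
      rcases hpair k l hne with h | h
      · exact h.2 ((hN k).trans (hN l).symm)
      · exact h.2 hkl
    set f := d (P 0) with hf
    have hdP : ∀ k, d (P k) = f := fun k => by
      have := hdN k
      rw [hN, hdN 0] at this
      omega
    have hWkP : ∀ k l, W k (P l) = if k = l then 1 else 0 := by
      intro k l
      rw [hval k (P l) (hP0 l)]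
      by_cases hkl : k = l
      · rw [if_pos hkl, hkl, if_pos rfl]
      · rw [if_neg hkl, if_neg fun h => hkl (hPinj h).symm,
          if_neg (by rw [hN k, ← hN l]; exact hPN l)]
    have hsumN : ∑ k, W k (N 0) = -4 := by
      rw [Finset.sum_congr rfl fun k _ => show W k (N 0) = -1 by rw [← hN k]; exact hWN k]; rfl
    exfalso
    have hzero : ∀ i ∈ (Finset.univ : Finset ι), i ∉ insert i₀ (insert (N 0) (Finset.univ.image P)) →
        (((∑ k, W k i) - 3 * W 0 i : ℤ) : ℚ) * (((∑ k, W k i) - 3 * W 0 i : ℤ) : ℚ) *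
          (((∑ k, W k i) - 3 * W 1 i : ℤ) : ℚ) / (d i : ℚ) = 0 := by
      intro i _ hi
      simp only [Finset.mem_insert, Finset.mem_image, Finset.mem_univ, true_and, not_or, not_exists] at hi
      have hall : ∀ k, W k i = 0 := fun k =>
        hz k i hi.1 (fun h => hi.2.2 k h.symm) (by rw [hN k]; exact hi.2.1)
      simp [hall]
    rw [← Finset.sum_subset (Finset.subset_univ _) hzero,
      Finset.sum_insert (by simp [Ne.symm (hN0 0), fun k => hP0 k]),
      Finset.sum_insert (by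
        simp only [Finset.mem_image, Finset.mem_univ, true_and, not_exists]
        exact fun k h => hPN k (by rw [hN k]; exact h)),
      Finset.sum_image hPinj.injOn] at hcubic
    simp only [hW0, hd0, hsumN, show W 0 (N 0) = -1 from hWN 0,
      show W 1 (N 0) = -1 by rw [← hN 1]; exact hWN 1, hWkP, hdP, Fin.sum_univ_four, hdN 0, ← hf]
      at hcubic
    norm_num [Fin.ext_iff] at hcubic
    have hf0 : (0 : ℚ) < (f : ℚ) := Int.cast_pos.2 (hd _)
    field_simp at hcubic
    nlinarith [hcubic, mul_pos hf0 hf0]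

universe u

variable {K : Type u} [Group K] [Finite K] {S : Sylow 3 K}

theorem exists_linear_of_card_eighteen (h : Setup S)
    (hN : Nat.card (Subgroup.normalizer ((S : Subgroup K) : Set K)) = 18) :
    ∃ lam : K →* ℂ, lam ≠ 1 ∧ ∀ s ∈ (S : Subgroup K), lam s = 1 := by
  classical
  haveI := Fintype.ofFinite K
  haveI := Fact.mk Nat.prime_two
  set N := Subgroup.normalizer ((S : Subgroup K) : Set K) with hNdef
  obtain ⟨ι, hinj, hrange⟩ := exists_coord' h
  have hmem : ∀ v, ι v ∈ (S : Subgroup K) := fun v => hrange ▸ ⟨v, rfl⟩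
  have hne : ∀ v, v ≠ 1 → ι v ≠ 1 := fun v hv h1 => hv (hinj (h1.trans (map_one ι).symm))
  -- an inverting involution
  obtain ⟨t, ht⟩ := exists_prime_orderOf_dvd_card' (G := N) 2 (by rw [hN]; norm_num)
  have htt : (t : K) * (t : K) = 1 := by
    have := congrArg Subtype.val (pow_orderOf_eq_one t)
    rw [ht, SubgroupClass.coe_pow, sq] at this
    exact this
  have htne : (t : K) ≠ 1 := fun h1 => by
    rw [show t = 1 from Subtype.ext h1, orderOf_one] at ht
    norm_num at ht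
  have htS : (t : K) ∉ (S : Subgroup K) := fun hts => htne (by
    calc (t : K) = (t : K) ^ 3 * ((t : K) * t)⁻¹ := by group
      _ = 1 := by rw [h.exp _ hts, htt]; group)
  have hti : (t : K)⁻¹ = t := inv_eq_of_mul_eq_one_right htt
  have ht' : ∀ x : K, (t : K) * ((t : K) * x) = x := fun x => by rw [← mul_assoc, htt, one_mul]
  have hinvert : ∀ s ∈ (S : Subgroup K), (t : K) * s * t = s⁻¹ := by
    intro s hs
    have hts : (t : K) * s * t ∈ (S : Subgroup K) := by
      have := (Subgroup.mem_normalizer_iff.1 t.2 s).1 hs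
      rwa [hti] at this
    refine (inv_eq_of_mul_eq_one_right ?_).symm
    by_contra hne1
    refine htS (h.mem_of_commute (mul_mem hs hts) hne1 ?_)
    calc (t : K) * (s * ((t : K) * s * t)) = (t : K) * s * t * (s * t) := by
          simp only [mul_assoc]
      _ = s * ((t : K) * s * t) * t := by
          rw [← mul_assoc ((t : K) * s * t) s, h.comm hts hs]
  have hpm : ∀ n ∈ N, ∀ s ∈ (S : Subgroup K), n * s * n⁻¹ = s ∨ n * s * n⁻¹ = s⁻¹ := by
    intro n hn s hs
    have hidx : ((S : Subgroup K).subgroupOf N).index = 2 := by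
      have := ((S : Subgroup K).subgroupOf N).card_mul_index
      rw [Nat.card_congr (Subgroup.subgroupOfEquivOfLe Subgroup.le_normalizer).toEquiv, h.card, hN]
        at this
      omega
    by_cases hnS : n ∈ (S : Subgroup K)
    · left
      rw [h.comm hnS hs, mul_inv_cancel_right]
    · right
      have hm : (⟨n, hn⟩ : N) * t ∈ (S : Subgroup K).subgroupOf N := by
        rw [Subgroup.mul_mem_iff_of_index_two hidx]
        exact ⟨fun h' => absurd h' hnS, fun h' => absurd h' htS⟩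
      have hm' : n * (t : K) ∈ (S : Subgroup K) := hm
      calc n * s * n⁻¹ = n * t * ((t : K) * s * t) * (n * t)⁻¹ := by
            rw [mul_inv_rev, hti]; simp only [mul_assoc, ht']
        _ = s⁻¹ := by rw [hinvert s hs, h.comm hm' (inv_mem hs), mul_inv_cancel_right]
  have hsep : ∀ i j, i ≠ j → ¬ IsConj (ι (line i)) (ι (line j)) := by
    intro i j hij hc
    obtain ⟨g, hg⟩ := isConj_iff.1 hc
    have hgN := h.ctl (hmem _) (hne _ (line_facts.2.1 i)) (hg ▸ hmem _)
    rcases hpm g hgN _ (hmem (line i)) with he | he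
    · exact (line_facts.1 i j hij).1 (hinj (he.symm.trans hg))
    · refine (line_facts.1 j i hij.symm).2 (hinj ?_)
      rw [map_inv, ← hg, he]
  -- character values on the four lines
  let u : Fin 4 → IrrCharacter K → ℂ := fun k χ => χ.1 (ι (line k))
  have hcinv : ∀ v : V, ∀ χ : IrrCharacter K, χ.1 (ι v⁻¹) = χ.1 (ι v) := fun v χ => by
    rw [map_inv, ← hinvert _ (hmem v)]
    have := CharInt.char_conj_apply (Char.irr_isCharacter χ) (ι v) (t : K)
    rwa [hti] at this
  obtain ⟨chi, hω, hω3⟩ := ThreeByS3.exists_chi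
  obtain ⟨e0, e0', e1, e1', e2, e2', e3, e3', e4⟩ := line_values
  have hval : ∀ χ : IrrCharacter K, χ.1 (ι (1, 1)) = χ.1 1 ∧ χ.1 (ι (1, γ)) = u 1 χ ∧
      χ.1 (ι (1, γ * γ)) = u 1 χ ∧ χ.1 (ι (γ, 1)) = u 0 χ ∧ χ.1 (ι (γ, γ)) = u 2 χ ∧
      χ.1 (ι (γ, γ * γ)) = u 3 χ ∧ χ.1 (ι (γ * γ, 1)) = u 0 χ ∧ χ.1 (ι (γ * γ, γ)) = u 3 χ ∧
      χ.1 (ι (γ * γ, γ * γ)) = u 2 χ := fun χ => by
    simp only [u, e0, e0', e1, e1', e2, e2', e3, e3', e4, map_one, hcinv, and_self]
  have hW : ∀ k, ∀ χ : IrrCharacter K, ∃ w : ℤ, (∑ l, u l χ) - u k χ = 3 * (w : ℂ) := by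
    intro k χ
    obtain ⟨m0, hm0⟩ := exists_mult ι χ 1
    obtain ⟨m, hm⟩ := exists_mult ι χ (chi.comp (func k))
    refine ⟨m0 - m, ?_⟩
    obtain ⟨v0, v1, v2, v3, v4, v5, v6, v7, v8⟩ := hval χ
    rw [sum_v] at hm0 hm
    simp only [MonoidHom.one_apply, mul_one, v0, v1, v2, v3, v4, v5, v6, v7, v8] at hm0
    simp only [MonoidHom.comp_apply, v0, v1, v2, v3, v4, v5, v6, v7, v8] at hm
    have hi1 : γ⁻¹ = γ * γ ∧ (γ * γ)⁻¹ = γ ∧ γ * γ * γ = 1 := by
      refine ⟨?_, ?_, ?_⟩ <;> rfl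
    have hγ2 : chi (γ * γ) = chi γ ^ 2 := by rw [map_mul, sq]
    rw [Fin.sum_univ_four]
    push_cast
    fin_cases k <;>
      simp [func, Prod.inv_mk, hi1.1, hi1.2.1, hi1.2.2, hγ2, mul_inv_cancel] at hm ⊢ <;>
      ring_nf at hm hm0 ⊢
    · linear_combination (1 / 3 : ℂ) * (hm0 - hm) +
        (1 / 3 : ℂ) * (u 1 χ + u 2 χ + u 3 χ) * hω
    · linear_combination (1 / 3 : ℂ) * (hm0 - hm) +
        (1 / 3 : ℂ) * (u 0 χ + u 2 χ + u 3 χ) * hω
    · linear_combination (1 / 3 : ℂ) * (hm0 - hm) +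
        (1 / 3 : ℂ) * (u 0 χ + u 1 χ + u 3 χ) * hω
    · linear_combination (1 / 3 : ℂ) * (hm0 - hm) +
        (1 / 3 : ℂ) * (u 0 χ + u 1 χ + u 2 χ) * hω + (1 / 3 : ℂ) * (u 2 χ * chi γ + u 3 χ) * hω3
  choose W hW using hW
  have huW : ∀ χ l, u l χ = ((∑ k, W k χ) - 3 * W l χ : ℤ) := fun χ l => by
    have h0 := hW 0 χ; have h1 := hW 1 χ; have h2 := hW 2 χ; have h3 := hW 3 χ
    simp only [Fin.sum_univ_four] at h0 h1 h2 h3 ⊢
    push_cast
    fin_cases l <;> dsimp
    · linear_combination (-2 / 3 : ℂ) * h0 + (1 / 3 : ℂ) * (h1 + h2 + h3)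
    · linear_combination (-2 / 3 : ℂ) * h1 + (1 / 3 : ℂ) * (h0 + h2 + h3)
    · linear_combination (-2 / 3 : ℂ) * h2 + (1 / 3 : ℂ) * (h0 + h1 + h3)
    · linear_combination (-2 / 3 : ℂ) * h3 + (1 / 3 : ℂ) * (h0 + h1 + h2)
  have horth : ∀ k l, ∑ χ, u k χ * u l χ = if k = l then (9 : ℂ) else 0 := by
    intro k l
    have h1 := Char.sum_irr_mul_conj (ι (line k)) (ι (line l))
    have h2 : ∀ χ : IrrCharacter K, (starRingEnd ℂ) (χ.1 (ι (line l))) = u l χ := fun χ => by
      rw [Char.IsCharacter.conj_apply (Char.irr_isCharacter χ), ← map_inv, hcinv]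
    simp only [h2] at h1
    rw [h1]
    rcases eq_or_ne k l with rfl | hkl
    · rw [if_pos (IsConj.refl _), if_pos rfl, h.cent _ (hmem _) (hne _ (line_facts.2.1 k)), h.card]
      norm_num
    · rw [if_neg (hsep k l hkl), if_neg hkl]
  let d : IrrCharacter K → ℤ := fun χ => (charDegree χ.1 : ℤ)
  have hdC : ∀ χ, (d χ : ℂ) = χ.1 1 := fun χ => by simp [d, Char.charDegree_cast]
  have hd0 : d (Char.trivialChar K) = 1 := by
    have : (d (Char.trivialChar K) : ℂ) = 1 := (hdC _).trans rfl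
    exact_mod_cast this
  have hW0 : ∀ k, W k (Char.trivialChar K) = 1 := fun k => by
    have h1 := hW k (Char.trivialChar K)
    simp only [Fin.sum_univ_four, show ∀ l, u l (Char.trivialChar K) = 1 from fun l => rfl] at h1
    have : (W k (Char.trivialChar K) : ℂ) = 1 := by linear_combination (-1 / 3 : ℂ) * h1
    exact_mod_cast this
  have hWC : ∀ k χ, (W k χ : ℂ) = ((∑ l, u l χ) - u k χ) / 3 := fun k χ => by
    rw [hW]; ring
  have hWW : ∀ k l, W k ⬝ᵥ W l = if k = l then 3 else 2 := by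
    intro k l
    have h1 : ((W k ⬝ᵥ W l : ℤ) : ℂ) = if k = l then 3 else 2 := by
      rw [dotProduct, Int.cast_sum]
      simp only [Int.cast_mul, hWC, Fin.sum_univ_four]
      have expand : ∀ χ, (u 0 χ + u 1 χ + u 2 χ + u 3 χ - u k χ) / 3 *
          ((u 0 χ + u 1 χ + u 2 χ + u 3 χ - u l χ) / 3) = (1 / 9 : ℂ) *
          ((u 0 χ * u 0 χ + u 0 χ * u 1 χ + u 0 χ * u 2 χ + u 0 χ * u 3 χ - u 0 χ * u l χ) +
           (u 1 χ * u 0 χ + u 1 χ * u 1 χ + u 1 χ * u 2 χ + u 1 χ * u 3 χ - u 1 χ * u l χ) +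
           (u 2 χ * u 0 χ + u 2 χ * u 1 χ + u 2 χ * u 2 χ + u 2 χ * u 3 χ - u 2 χ * u l χ) +
           (u 3 χ * u 0 χ + u 3 χ * u 1 χ + u 3 χ * u 2 χ + u 3 χ * u 3 χ - u 3 χ * u l χ) -
           (u k χ * u 0 χ + u k χ * u 1 χ + u k χ * u 2 χ + u k χ * u 3 χ - u k χ * u l χ)) :=
        fun χ => by ring
      simp only [expand, ← Finset.mul_sum, Finset.sum_add_distrib, Finset.sum_sub_distrib, horth]
      fin_cases k <;> fin_cases l <;> simp <;> norm_num
    split_ifs with hkl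
    · rw [if_pos hkl] at h1; exact_mod_cast h1
    · rw [if_neg hkl] at h1; exact_mod_cast h1
  have hWd : ∀ k, W k ⬝ᵥ d = 0 := by
    intro k
    have h0 : ∀ l, ∑ χ, u l χ * (d χ : ℂ) = 0 := fun l => by
      have h1 := Char.sum_irr_degree_mul (ι (line l))
      rw [if_neg (hne _ (line_facts.2.1 l))] at h1
      rw [← h1]
      exact Finset.sum_congr rfl fun χ _ => by rw [hdC, mul_comm]
    have h1 : ((W k ⬝ᵥ d : ℤ) : ℂ) = 0 := by
      rw [dotProduct, Int.cast_sum]
      simp only [Int.cast_mul, hWC, Fin.sum_univ_four]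
      have expand : ∀ χ, (u 0 χ + u 1 χ + u 2 χ + u 3 χ - u k χ) / 3 * (d χ : ℂ) = (1 / 3 : ℂ) *
          (u 0 χ * d χ + u 1 χ * d χ + u 2 χ * d χ + u 3 χ * d χ - u k χ * d χ) := fun χ => by ring
      simp only [expand, ← Finset.mul_sum, Finset.sum_add_distrib, Finset.sum_sub_distrib, h0]
      ring
    exact_mod_cast h1
  -- no product of two elements of the first class lies in the second
  have hempty : IsEmpty {p : K × K //
      p.1 * ι (line 0) * p.1⁻¹ * (p.2 * ι (line 0) * p.2⁻¹) = ι (line 1)} := by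
    refine ⟨fun ⟨⟨p, q⟩, hpq⟩ => ?_⟩
    simp only at hpq
    have hcube : ∀ r : K, r * ι (line 0) * r⁻¹ * (r * ι (line 0) * r⁻¹) * (r * ι (line 0) * r⁻¹) = 1 :=
      fun r => by
        calc _ = r * (ι (line 0) * ι (line 0) * ι (line 0)) * r⁻¹ := by group
          _ = 1 := by rw [h.cube (hmem _)]; group
    have hy : (p * ι (line 0) * p⁻¹)⁻¹ * ι (line 1) = q * ι (line 0) * q⁻¹ := by rw [← hpq]; group
    rcases h.triangle (hmem (line 1)) (hne _ (line_facts.2.1 1)) (hcube p)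
      (by rw [hy]; exact hcube q) with hx | ⟨hc, -⟩
    · have hqS : q * ι (line 0) * q⁻¹ ∈ (S : Subgroup K) := hy ▸ mul_mem (inv_mem hx) (hmem _)
      obtain ⟨hc1, hc2, hc3, hc4⟩ := line_facts.2.2
      rcases hpm p (h.ctl (hmem _) (hne _ (line_facts.2.1 0)) hx) _ (hmem (line 0)) with a | a <;>
        rcases hpm q (h.ctl (hmem _) (hne _ (line_facts.2.1 0)) hqS) _ (hmem (line 0)) with b | b <;>
        rw [a, b] at hpq <;> simp only [← map_inv, ← map_mul] at hpq <;>
        first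
          | exact hc1 (hinj hpq).symm
          | exact hc2 (hinj hpq).symm
          | exact hc3 (hinj hpq).symm
          | exact hc4 (hinj hpq).symm
    · refine hsep 1 0 (by decide) ?_
      have h10 : IsConj (ι (line 1)) (ι (line 1))⁻¹ :=
        isConj_iff.2 ⟨(t : K), by rw [hti]; exact hinvert _ (hmem _)⟩
      exact (h10.trans hc).trans (isConj_iff.2 ⟨p⁻¹, by group⟩)
  have hcount := Char.card_conj_mul_conj_eq (ι (line 0)) (ι (line 0)) (ι (line 1))
  rw [Nat.card_of_isEmpty, Nat.cast_zero, eq_comm, mul_eq_zero] at hcount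
  have hcubic : ∑ χ, (((∑ k, W k χ) - 3 * W 0 χ : ℤ) : ℚ) * (((∑ k, W k χ) - 3 * W 0 χ : ℤ) : ℚ) *
      (((∑ k, W k χ) - 3 * W 1 χ : ℤ) : ℚ) / (d χ : ℚ) = 0 := by
    have h1 := hcount.resolve_left Char.card_ne_zero
    have h2 : ∀ χ : IrrCharacter K,
        χ.1 (ι (line 0)) * χ.1 (ι (line 0)) * χ.1 (ι (line 1))⁻¹ / χ.1 1 =
          ((((((∑ k, W k χ) - 3 * W 0 χ : ℤ) : ℚ) * (((∑ k, W k χ) - 3 * W 0 χ : ℤ) : ℚ) *
            (((∑ k, W k χ) - 3 * W 1 χ : ℤ) : ℚ) / (d χ : ℚ)) : ℚ) : ℂ) := fun χ => by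
      rw [← map_inv, hcinv, ← hdC]
      show u 0 χ * u 0 χ * u 1 χ / _ = _
      rw [huW, huW]
      push_cast
      ring
    simp only [h2] at h1
    exact_mod_cast h1
  obtain ⟨χ, hχ0, hd1, hu⟩ := two_core (d := d)
    (fun χ => Int.natCast_pos.2 (Char.charDegree_pos χ)) hd0 W hW0 hWW hWd hcubic
  obtain ⟨lam, hlam⟩ := Char.IsCharacter.exists_monoidHom (Char.irr_isCharacter χ)
    (by rw [← hdC, hd1, Int.cast_one])
  refine ⟨lam, fun h1 => hχ0 (Subtype.ext (by rw [← hlam, h1]; rfl)), fun s hs => ?_⟩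
  obtain ⟨v, rfl⟩ : s ∈ ι.range := hrange ▸ hs
  have hu1 : ∀ l, u l χ = 1 := fun l => by rw [huW, hu, Int.cast_one]
  have h10 : χ.1 1 = 1 := by rw [← hdC, hd1, Int.cast_one]
  have hlam' : ∀ w : V, lam (ι w) = χ.1 (ι w) := fun w => by rw [hlam]
  obtain ⟨v0, v1, v2, v3, v4, v5, v6, v7, v8⟩ := hval χ
  obtain ⟨a, b⟩ := v
  have hc : ∀ c : C3, c = 1 ∨ c = γ ∨ c = γ * γ := by decide +kernel
  rw [hlam']
  rcases hc a with rfl | rfl | rfl <;> rcases hc b with rfl | rfl | rfl <;>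
    simp only [v0, v1, v2, v3, v4, v5, v6, v7, v8, hu1, h10]

theorem normal_of_card_eighteen (h : Setup S)
    (hN : Nat.card (Subgroup.normalizer ((S : Subgroup K) : Set K)) = 18) :
    (S : Subgroup K).Normal := by
  haveI := Fact.mk Nat.prime_three
  obtain ⟨lam, hlam, hS⟩ := exists_linear_of_card_eighteen h hN
  have hSL : (S : Subgroup K) ≤ lam.ker := fun s hs => hS s hs
  set N := Subgroup.normalizer ((S : Subgroup K) : Set K) with hNdef
  have hsup : N ⊔ lam.ker = ⊤ := Sylow.normalizer_sup_eq_top' S hSL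
  refine normal_of_subtype hSL (normal_of_card_nine (h.subtype hSL) ?_)
  have hmap : Nat.card (Subgroup.normalizer
      (((S.subtype hSL : Sylow 3 lam.ker) : Subgroup lam.ker) : Set lam.ker)) =
      Nat.card (N.subgroupOf lam.ker) := by
    rw [Sylow.coe_subtype, ← Subgroup.subgroupOf_normalizer_eq hSL]
  rw [hmap]
  have hcardL : Nat.card (N.subgroupOf lam.ker) = Nat.card (lam.ker ⊓ N : Subgroup K) := by
    rw [← Subgroup.card_map_of_injective lam.ker.subtype_injective, Subgroup.subgroupOf_map_subtype,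
      inf_comm]
  have hlt : (lam.ker ⊓ N : Subgroup K) ≠ N := fun heq => by
    have hle : N ≤ lam.ker := heq ▸ inf_le_left
    rw [sup_eq_right.2 hle] at hsup
    exact hlam (MonoidHom.ext fun g =>
      MonoidHom.mem_ker.1 (show g ∈ lam.ker from hsup ▸ Subgroup.mem_top g))
  have hS9 : 9 ∣ Nat.card (lam.ker ⊓ N : Subgroup K) := by
    rw [← h.card]
    exact Subgroup.card_dvd_of_le (le_inf hSL Subgroup.le_normalizer)
  have hdvd : Nat.card (lam.ker ⊓ N : Subgroup K) ∣ 18 := hN ▸ Subgroup.card_dvd_of_le inf_le_right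
  rw [hcardL]
  obtain ⟨k, hk⟩ := hS9
  rw [hk] at hdvd
  have hk2 : k ∣ 2 := (Nat.mul_dvd_mul_iff_left (by norm_num : 0 < 9)).1 hdvd
  rcases (Nat.dvd_prime Nat.prime_two).1 hk2 with rfl | rfl
  · exact hk
  · refine absurd (Subgroup.eq_of_le_of_card_ge inf_le_right ?_) hlt
    rw [hN, hk]

/-- A normaliser of order 9 or 18 makes the Sylow subgroup normal. -/
theorem normal_of_dvd (h : Setup S)
    (hN : Nat.card (Subgroup.normalizer ((S : Subgroup K) : Set K)) ∣ 18) :
    (S : Subgroup K).Normal := by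
  have h9 : 9 ∣ Nat.card (Subgroup.normalizer ((S : Subgroup K) : Set K)) := by
    rw [← h.card]
    exact Subgroup.card_dvd_of_le Subgroup.le_normalizer
  obtain ⟨k, hk⟩ := h9
  rw [hk] at hN
  have hk2 : k ∣ 2 := (Nat.mul_dvd_mul_iff_left (by norm_num : 0 < 9)).1 hN
  rcases (Nat.dvd_prime Nat.prime_two).1 hk2 with rfl | rfl
  · exact normal_of_card_nine h hk
  · exact normal_of_card_eighteen h hk

end Cfsg.Agent.Exceptional.SelfNine
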